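import Cfsg.Agent.S3861
import Cfsg.Agent.S0205
import Mathlib.GroupTheory.Sylow
import Mathlib.GroupTheory.Perm.Cycle.Type

/-!
Real elements of odd prime power order: powers, lifting along homomorphisms, and the structure of
groups without such elements.
-/

set_option autoImplicit false

namespace CfsgLib.S4187

variable {G : Type*} [Group G]

/-- a nontrivial real element of odd prime power order -/
def RealP (d : G) : Prop :=
  d ≠ 1 ∧ (∃ p k : ℕ, p.Prime ∧ p ≠ 2 ∧ orderOf d = p ^ k) ∧ IsConj d d⁻¹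

/-- an element whose order is a power of two -/
def TwoElt (g : G) : Prop := ∃ k : ℕ, g ^ 2 ^ k = 1

theorem TwoElt.inv {g : G} (h : TwoElt g) : TwoElt g⁻¹ := by
  obtain ⟨k, hk⟩ := h; exact ⟨k, by rw [inv_pow, hk, inv_one]⟩

theorem TwoElt.conj {g : G} (h : TwoElt g) (a : G) : TwoElt (a * g * a⁻¹) := by
  obtain ⟨k, hk⟩ := h; exact ⟨k, by rw [conj_pow, hk, mul_one, mul_inv_cancel]⟩

theorem TwoElt.one : TwoElt (1 : G) := ⟨0, one_pow _⟩

theorem twoElt_of_mem {A : Subgroup G} (hA : IsPGroup 2 A) {g : G} (hg : g ∈ A) : TwoElt g := by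
  obtain ⟨k, hk⟩ := isPGroup_iff_pow_pow_eq_one.mp hA ⟨g, hg⟩
  exact ⟨k, by simpa using congrArg Subtype.val hk⟩

theorem isPGroup_of_twoElt {A : Subgroup G} (h : ∀ g ∈ A, TwoElt g) : IsPGroup 2 A :=
  isPGroup_iff_pow_pow_eq_one.mpr fun ⟨g, hg⟩ => by
    obtain ⟨k, hk⟩ := h g hg; exact ⟨k, Subtype.ext (by simpa using hk)⟩

theorem twoElt_of_sq {g : G} (h : g * g = 1) : TwoElt g := ⟨1, by rw [pow_one, sq, h]⟩

theorem TwoElt.eq_one_of_odd {g : G} (h : TwoElt g) (ho : Odd (orderOf g)) : g = 1 := by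
  obtain ⟨k, hk⟩ := h
  rw [← orderOf_eq_one_iff]
  exact Nat.eq_one_of_dvd_coprimes (Nat.Coprime.pow_left k (Nat.coprime_two_left.mpr ho))
    (orderOf_dvd_of_pow_eq_one hk) dvd_rfl

theorem RealP.odd {d : G} (h : RealP d) : Odd (orderOf d) := by
  obtain ⟨-, ⟨p, k, hp, hp2, hd⟩, -⟩ := h
  rw [hd]; exact (hp.odd_of_ne_two hp2).pow

theorem RealP.sq_ne_one {d : G} (h : RealP d) : d * d ≠ 1 := fun h2 =>
  h.1 ((twoElt_of_sq h2).eq_one_of_odd h.odd)

theorem RealP.ne_inv {d : G} (h : RealP d) : d ≠ d⁻¹ := fun h2 =>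
  h.sq_ne_one (mul_eq_one_iff_eq_inv.mpr h2)

theorem RealP.map {H : Type*} [Group H] {f : G →* H} (hf : Function.Injective f) {d : G}
    (h : RealP d) : RealP (f d) := by
  obtain ⟨h1, ⟨p, k, hp, hp2, hd⟩, h3⟩ := h
  refine ⟨fun e => h1 (hf (by rw [e, map_one])), ⟨p, k, hp, hp2, by rw [orderOf_injective f hf, hd]⟩, ?_⟩
  simpa using f.map_isConj h3

theorem RealP.conj {d : G} (h : RealP d) (a : G) : RealP (a * d * a⁻¹) :=
  h.map (f := (MulAut.conj a).toMonoidHom) (MulAut.conj a).injective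

theorem conj_pow_inverted {g d : G} (h : g * d * g⁻¹ = d⁻¹) (n : ℕ) :
    g * d ^ n * g⁻¹ = (d ^ n)⁻¹ := by rw [← conj_pow, h, inv_pow]

theorem exists_realP_pow [Finite G] {d : G} (h1 : d ≠ 1) (ho : Odd (orderOf d))
    (hr : IsConj d d⁻¹) : ∃ n : ℕ, RealP (d ^ n) := by
  obtain ⟨p, hp, hpd⟩ := Nat.exists_prime_and_dvd (show orderOf d ≠ 1 by rwa [Ne, orderOf_eq_one_iff])
  have hy : orderOf (d ^ (orderOf d / p)) = p := by
    rw [orderOf_pow_of_dvd _ (Nat.div_dvd_of_dvd hpd), Nat.div_div_self hpd (orderOf_pos d).ne']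
    exact (Nat.div_pos (Nat.le_of_dvd (orderOf_pos d) hpd) hp.pos).ne'
  obtain ⟨g, hg⟩ := isConj_iff.mp hr
  refine ⟨orderOf d / p, fun e => hp.ne_one ?_, ⟨p, 1, hp, fun e => ?_, by rw [hy, pow_one]⟩,
    isConj_iff.mpr ⟨g, conj_pow_inverted hg _⟩⟩
  · rw [← hy, e, orderOf_one]
  · subst e; exact Nat.not_even_iff_odd.mpr ho (even_iff_two_dvd.mpr hpd)

theorem inverts_odd_pow {g d : G} (h : g * d * g⁻¹ = d⁻¹) {m : ℕ} (hm : Odd m) :
    g ^ m * d * (g ^ m)⁻¹ = d⁻¹ := by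
  obtain ⟨j, rfl⟩ := hm
  have hc : Commute (g ^ 2) d := by
    show g ^ 2 * d = d * g ^ 2
    rw [← mul_inv_eq_iff_eq_mul]
    calc g ^ 2 * d * (g ^ 2)⁻¹ = g * (g * d * g⁻¹) * g⁻¹ := by rw [sq, mul_inv_rev]; group
      _ = d := by rw [h, show g * d⁻¹ * g⁻¹ = (g * d * g⁻¹)⁻¹ by group, h, inv_inv]
  have hc' : Commute ((g ^ 2) ^ j) d⁻¹ := (hc.pow_left j).inv_right
  calc g ^ (2 * j + 1) * d * (g ^ (2 * j + 1))⁻¹
      = (g ^ 2) ^ j * (g * d * g⁻¹) * ((g ^ 2) ^ j)⁻¹ := by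
        rw [pow_succ, pow_mul]; group
    _ = d⁻¹ := by rw [h, hc'.eq, mul_inv_cancel_right]

theorem exists_odd_twoElt [Finite G] (g : G) : ∃ m : ℕ, Odd m ∧ TwoElt (g ^ m) := by
  obtain ⟨a, m, hm, ham⟩ := Nat.exists_eq_two_pow_mul_odd (orderOf_pos g).ne'
  exact ⟨m, hm, a, by rw [← pow_mul, mul_comm, ← ham, pow_orderOf_eq_one]⟩

theorem TwoElt.exists_involution {g : G} (h : TwoElt g) (hg : g ≠ 1) :
    ∃ n : ℕ, g ^ n * g ^ n = 1 ∧ g ^ n ≠ 1 := by
  classical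
  have hk : g ^ 2 ^ Nat.find h = 1 := Nat.find_spec h
  rcases hfd : Nat.find h with _ | j
  · rw [hfd, pow_zero, pow_one] at hk; exact absurd hk hg
  · refine ⟨2 ^ j, ?_, fun e => Nat.find_min h (m := j) (by omega) e⟩
    rw [← pow_add, ← two_mul, ← pow_succ', ← hfd]; exact hk

theorem exists_involution_of_even [Finite G] {d : G} (h : ¬ Odd (orderOf d)) :
    ∃ n : ℕ, d ^ n * d ^ n = 1 ∧ d ^ n ≠ 1 := by
  obtain ⟨m, hm, hd⟩ := exists_odd_twoElt d
  have hne : d ^ m ≠ 1 := fun e => h (hm.of_dvd_nat (orderOf_dvd_of_pow_eq_one e))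
  obtain ⟨n, h1, h2⟩ := hd.exists_involution hne
  exact ⟨m * n, by rw [pow_mul]; exact h1, by rw [pow_mul]; exact h2⟩

/-- without real elements of odd prime power order the Sylow 2-subgroup is normal -/
theorem sylow_normal [Finite G] (h : ∀ d : G, ¬ RealP d) (P : Sylow 2 G) :
    (P : Subgroup G).Normal :=
  (Cfsg.Agent.S3861.result P).mp fun x hx ho hr => by
    obtain ⟨n, hn⟩ := exists_realP_pow hx ho hr; exact h _ hn

theorem twoElt_mul [Finite G] (h : ∀ d : G, ¬ RealP d) {a b : G} (ha : TwoElt a) (hb : TwoElt b) :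
    TwoElt (a * b) := by
  obtain ⟨P⟩ : Nonempty (Sylow 2 G) := inferInstance
  have := sylow_normal h P
  have key : ∀ c : G, TwoElt c → c ∈ (P : Subgroup G) := by
    intro c hc
    obtain ⟨k, hk⟩ := hc
    have hz : IsPGroup 2 (Subgroup.zpowers c) := IsPGroup.of_card_dvd_pow (n := k) (by
      rw [Nat.card_zpowers]; exact orderOf_dvd_of_pow_eq_one hk)
    have h2 := P.3 (hz.to_sup_of_normal_right P.2) le_sup_right
    exact h2.le (Subgroup.mem_sup_left (Subgroup.mem_zpowers c))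
  exact twoElt_of_mem P.2 (mul_mem (key a ha) (key b hb))

/-- without real elements of odd prime power order the group is solvable -/
theorem solvable_of_noReal [Finite G] (h : ∀ d : G, ¬ RealP d) : Group.IsSolvable G := by
  obtain ⟨P⟩ : Nonempty (Sylow 2 G) := inferInstance
  have := sylow_normal h P
  have h1 : Group.IsSolvable (P : Subgroup G) := by
    have : Group.IsNilpotent (P : Subgroup G) := P.2.isNilpotent
    infer_instance
  have h2 : Group.IsSolvable (G ⧸ (P : Subgroup G)) := by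
    refine Cfsg.Agent.S0205.result ?_
    rw [← Subgroup.index_eq_card, ← Nat.not_even_iff_odd, even_iff_two_dvd]
    exact P.not_dvd_index
  exact Group.isSolvable_of_ker_le_range (P : Subgroup G).subtype (QuotientGroup.mk' (P : Subgroup G)) (by simp)

/-- the Frattini argument for one element -/
theorem exists_mul_normalizer [Finite G] {p : ℕ} [Fact p.Prime] {H : Subgroup G} {n : G}
    (hn : n ∈ Subgroup.normalizer (H : Set G)) (R : Sylow p H) :
    ∃ h ∈ H, h * n ∈ Subgroup.normalizer (((R : Subgroup H).map H.subtype : Subgroup G) : Set G) := by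
  let φ : MulAut H := Subgroup.normalizerMonoidHom H ⟨n, hn⟩
  obtain ⟨c, hc⟩ := MulAction.exists_smul_eq H (φ • R) R
  refine ⟨c, c.2, ?_⟩
  rw [Subgroup.mem_normalizer_iff_map_conj_eq]
  have h2 : (R : Subgroup H) =
      (R : Subgroup H).map ((MulAut.conj c).toMonoidHom.comp φ.toMonoidHom) := by
    conv_lhs => rw [← hc]
    rw [← Subgroup.map_map]
    rfl
  conv_rhs => rw [h2]
  rw [Subgroup.map_map, Subgroup.map_map]
  congr 1
  ext a
  simp [φ, Subgroup.normalizerMonoidHom, mul_assoc]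
  show n * ((a : G) * (n⁻¹ * (c : G)⁻¹)) = n * (a : G) * n⁻¹ * (c : G)⁻¹
  simp only [mul_assoc]

/-- lifting real elements of odd prime power order -/
theorem exists_real_lift {A B : Type*} [Group A] [Finite A] [Group B] (f : A →* B) {z : B}
    (hz : RealP z) {a0 n : A} (ha0 : f a0 = z) (hn : f n * z * (f n)⁻¹ = z⁻¹) :
    ∃ y : A, f y = z ∧ RealP y := by
  classical
  obtain ⟨hz1, ⟨r, k, hr, hr2, hzk⟩, -⟩ := hz
  have : Fact r.Prime := ⟨hr⟩
  set Z0 := (Subgroup.zpowers z).comap f with hZ0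
  have hnZ : n ∈ Subgroup.normalizer (Z0 : Set A) := by
    rw [Subgroup.mem_normalizer_iff]
    intro a
    have e : ∀ i : ℤ, f n * z ^ i * (f n)⁻¹ = z ^ (-i) := fun i => by
      rw [← conj_zpow, hn, inv_zpow, ← zpow_neg]
    constructor
    · rintro ⟨i, hi⟩
      refine ⟨-i, ?_⟩
      simp only [map_mul, map_inv]
      rw [← hi, e]
    · rintro ⟨i, hi⟩
      refine ⟨-i, ?_⟩
      simp only [map_mul, map_inv] at hi
      have := e (-i)
      rw [neg_neg, hi] at this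
      exact mul_left_cancel (mul_right_cancel this)
  obtain ⟨R⟩ : Nonempty (Sylow r Z0) := inferInstance
  obtain ⟨z0, hz0, hg⟩ := exists_mul_normalizer hnZ R
  set R' := (R : Subgroup Z0).map Z0.subtype with hR'
  have hR'p : IsPGroup r R' := R.2.map _
  have hcomm : ∀ h ∈ Z0, Commute (f h) z := by
    rintro h ⟨i, hi⟩; rw [← hi]; exact Commute.zpow_self z i
  obtain ⟨m, hm, hg2⟩ := exists_odd_twoElt (z0 * n)
  set g := (z0 * n) ^ m with hg_def
  have hgR : g ∈ Subgroup.normalizer (R' : Set A) := Subgroup.pow_mem _ hg m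
  have hfg : f g * z * (f g)⁻¹ = z⁻¹ := by
    rw [hg_def, map_pow]
    refine inverts_odd_pow ?_ hm
    rw [map_mul, show f z0 * f n * z * (f z0 * f n)⁻¹ = f z0 * (f n * z * (f n)⁻¹) * (f z0)⁻¹ by group,
      hn, (hcomm z0 hz0).inv_right.eq, mul_inv_cancel_right]
  -- a preimage in `R'`
  obtain ⟨b, hb, hfb⟩ : ∃ b ∈ R', f b = z := by
    have ha : a0 ∈ Z0 := ⟨1, by simp [ha0]⟩
    obtain ⟨i, l, hl, hal⟩ := Nat.exists_eq_pow_mul_and_not_dvd (orderOf_pos a0).ne' r hr.ne_one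
    have hp : IsPGroup r (Subgroup.zpowers ((⟨a0, ha⟩ : Z0) ^ l)) := by
      refine IsPGroup.of_card_dvd_pow (n := i) ?_
      rw [Nat.card_zpowers]
      refine orderOf_dvd_of_pow_eq_one (Subtype.ext ?_)
      simp only [SubmonoidClass.coe_pow, OneMemClass.coe_one]
      rw [← pow_mul, mul_comm, ← hal, pow_orderOf_eq_one]
    obtain ⟨R1, hR1⟩ := hp.exists_le_sylow
    obtain ⟨c, hc⟩ := MulAction.exists_smul_eq Z0 R1 R
    have hcm : c * (⟨a0, ha⟩ : Z0) ^ l * c⁻¹ ∈ (R : Subgroup Z0) := by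
      rw [← hc]
      exact ⟨_, hR1 (Subgroup.mem_zpowers _), rfl⟩
    have hcop : Nat.Coprime l (orderOf z) := by
      rw [hzk]; exact Nat.Coprime.pow_right k ((hr.coprime_iff_not_dvd.mpr hl).symm)
    obtain ⟨j, hj⟩ := exists_pow_eq_self_of_coprime hcop
    refine ⟨((c * (⟨a0, ha⟩ : Z0) ^ l * c⁻¹ : Z0) : A) ^ j,
      pow_mem (Subgroup.mem_map_of_mem Z0.subtype hcm) j, ?_⟩
    simp only [Subgroup.coe_mul, SubmonoidClass.coe_pow, Subgroup.coe_inv, map_pow, map_mul, map_inv,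
      ha0]
    rw [((hcomm c c.2).pow_right l).eq, mul_inv_cancel_right, hj]
  let Φ := {a : A // a ∈ R' ∧ f a = z}
  have hmem : ∀ a : A, a ∈ R' → f a = z → (g * a * g⁻¹)⁻¹ ∈ R' ∧ f (g * a * g⁻¹)⁻¹ = z :=
    fun a h1 h2 => ⟨inv_mem ((Subgroup.mem_normalizer_iff.mp hgR a).mp h1), by
      rw [map_inv, map_mul, map_mul, map_inv, h2, hfg, inv_inv]⟩
  let s : Φ → Φ := fun a => ⟨(g * a.1 * g⁻¹)⁻¹, hmem a.1 a.2.1 a.2.2⟩
  have hinj : Function.Injective s := fun a b hab => Subtype.ext (by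
    have := congrArg Subtype.val hab
    simpa [s] using this)
  let σ : Equiv.Perm Φ := Equiv.ofBijective s (Finite.injective_iff_bijective.mp hinj)
  have hit : ∀ (j : ℕ) (a : Φ), (((σ ^ (2 * j)) a : Φ) : A) = g ^ (2 * j) * a.1 * (g ^ (2 * j))⁻¹ := by
    intro j
    induction j with
    | zero => intro a; simp
    | succ j ih =>
      intro a
      rw [show 2 * (j + 1) = 2 * j + 1 + 1 by omega, pow_succ, pow_succ, Equiv.Perm.mul_apply,
        Equiv.Perm.mul_apply, ih]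
      show g ^ (2 * j) * (g * (g * a.1 * g⁻¹)⁻¹ * g⁻¹)⁻¹ * (g ^ (2 * j))⁻¹ = _
      rw [pow_succ, pow_succ]; group
  obtain ⟨K, hK⟩ := hg2
  have hσ : σ ^ 2 ^ (K + 1) = 1 := by
    ext a
    rw [pow_succ', hit, Equiv.Perm.one_apply, show g ^ (2 * 2 ^ K) = 1 by
      rw [mul_comm, pow_mul, hK, one_pow]]
    simp
  have hcard : ¬ 2 ∣ Nat.card Φ := by
    have e : Φ ≃ ↥((R' : Subgroup A) ⊓ f.ker) :=
      { toFun := fun a => ⟨b⁻¹ * a.1, mul_mem (R'.inv_mem hb) a.2.1, by simp [a.2.2, hfb]⟩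
        invFun := fun a => ⟨b * a.1, mul_mem hb a.2.1, by simp [hfb, MonoidHom.mem_ker.mp a.2.2]⟩
        left_inv := fun a => Subtype.ext (mul_inv_cancel_left _ _)
        right_inv := fun a => Subtype.ext (inv_mul_cancel_left _ _) }
    obtain ⟨i, hi⟩ := IsPGroup.iff_card.mp (hR'p.to_le (inf_le_left : R' ⊓ f.ker ≤ R'))
    rw [Nat.card_congr e, hi]
    exact fun hd => hr2 ((Nat.prime_dvd_prime_iff_eq Nat.prime_two hr).mp
      (Nat.prime_two.dvd_of_dvd_pow hd)).symm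
  obtain ⟨⟨y, hyR, hfy⟩, hy⟩ : ∃ a : Φ, σ a = a := by
    have : Fintype Φ := Fintype.ofFinite Φ
    rw [Nat.card_eq_fintype_card] at hcard
    exact Equiv.Perm.exists_fixed_point_of_prime hcard hσ
  have hy' : (g * y * g⁻¹)⁻¹ = y := congrArg Subtype.val hy
  obtain ⟨i, hi⟩ := IsPGroup.iff_orderOf.mp hR'p ⟨y, hyR⟩
  refine ⟨y, hfy, fun e => hz1 (by rw [← hfy, e, map_one]), ⟨r, i, hr, hr2, ?_⟩,
    isConj_iff.mpr ⟨g, inv_eq_iff_eq_inv.mp hy'⟩⟩
  rw [← Subgroup.orderOf_coe] at hi; exact hi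

end CfsgLib.S4187
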