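import Cfsg.Agent.Lib.S4187.Basic
import Cfsg.Agent.S0200

/-!
A faithful transitive group of odd degree in which real elements of odd prime power order have no fixed
points, transitive centralisers and commute with no involution has at most one involution in each
point stabiliser.
-/

set_option autoImplicit false

namespace CfsgLib.S4187

variable {P : Type*} [Group P]

/-- an involution -/
def Inv (i : P) : Prop := i * i = 1 ∧ i ≠ 1

theorem Inv.conj {i : P} (h : Inv i) (a : P) : Inv (a * i * a⁻¹) :=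
  ⟨by rw [show a * i * a⁻¹ * (a * i * a⁻¹) = a * (i * i) * a⁻¹ by group, h.1]; group,
    fun e => h.2 (by simpa using e)⟩

theorem Inv.inv_eq {i : P} (h : Inv i) : i⁻¹ = i := inv_eq_of_mul_eq_one_left h.1

theorem Inv.orderOf {i : P} (h : Inv i) : orderOf i = 2 :=
  orderOf_eq_prime (by rw [sq]; exact h.1) h.2

/-- the product of two involutions is inverted by both -/
theorem Inv.conj_mul {i j : P} (hi : Inv i) (hj : Inv j) : i * (i * j) * i⁻¹ = (i * j)⁻¹ := by
  rw [← mul_assoc, hi.1, one_mul, mul_inv_rev, hi.inv_eq, hj.inv_eq]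

theorem Inv.conj_mul' {i j : P} (hi : Inv i) (hj : Inv j) : j * (i * j) * j⁻¹ = (i * j)⁻¹ := by
  rw [mul_inv_rev, hi.inv_eq, hj.inv_eq, mul_assoc j (i * j) j, mul_assoc i j j, hj.1, mul_one]

theorem commute_of_inverts {i z : P} (hz : z * z = 1) (h : i * z * i⁻¹ = z⁻¹) : Commute i z := by
  rw [inv_eq_of_mul_eq_one_left hz] at h
  exact mul_inv_eq_iff_eq_mul.mp h

variable {α : Type*} [MulAction P α] [Finite α] [Finite P]

theorem exists_fixed_of_twoGroup (hα : Odd (Nat.card α)) {A : Subgroup P} (hA : IsPGroup 2 A) :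
    ∃ v : α, ∀ a ∈ A, a • v = v := by
  obtain ⟨v, hv⟩ := hA.nonempty_fixed_point_of_prime_not_dvd_card α
    (fun h => Nat.not_even_iff_odd.mpr hα (even_iff_two_dvd.mpr h))
  exact ⟨v, fun a ha => hv ⟨a, ha⟩⟩

theorem isPGroup_zpowers_of_twoElt {g : P} (h : TwoElt g) : IsPGroup 2 (Subgroup.zpowers g) := by
  obtain ⟨k, hk⟩ := h
  exact IsPGroup.of_card_dvd_pow (n := k) (by
    rw [Nat.card_zpowers]; exact orderOf_dvd_of_pow_eq_one hk)

/-- the stabiliser of a point has a normal Sylow 2-subgroup -/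
theorem twoElt_mul_stab (hfix : ∀ (z : P) (v : α), RealP z → z • v ≠ v) {v : α} {a b : P}
    (ha : TwoElt a) (hb : TwoElt b) (hav : a • v = v) (hbv : b • v = v) : TwoElt (a * b) := by
  have hno : ∀ d : MulAction.stabilizer P v, ¬ RealP d := fun d hd =>
    hfix _ v (hd.map (f := (MulAction.stabilizer P v).subtype) Subtype.coe_injective) d.2
  obtain ⟨k, hk⟩ := twoElt_mul hno (a := ⟨a, hav⟩) (b := ⟨b, hbv⟩)
    (by obtain ⟨k, hk⟩ := ha; exact ⟨k, Subtype.ext (by simpa using hk)⟩)
    (by obtain ⟨k, hk⟩ := hb; exact ⟨k, Subtype.ext (by simpa using hk)⟩)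
  exact ⟨k, by simpa using congrArg Subtype.val hk⟩

theorem involution_unique_of_stab [FaithfulSMul P α] (hα : Odd (Nat.card α))
    (htr : ∀ v w : α, ∃ g : P, g • v = w)
    (hfix : ∀ (z : P) (v : α), RealP z → z • v ≠ v)
    (htrans : ∀ z : P, RealP z → ∀ v w : α, ∃ c : P, Commute c z ∧ c • v = w)
    (hcent : ∀ z s : P, RealP z → Inv s → ¬ Commute s z)
    {i j : P} {v₀ : α} (hi0 : Inv i) (hj0 : Inv j) (hiv : i • v₀ = v₀) (hjv : j • v₀ = v₀) :
    i = j := by
  classical
  have : Fintype P := Fintype.ofFinite P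
  have : Fintype α := Fintype.ofFinite α
  -- fixed points of involutions
  have hfp : ∀ i : P, Inv i → ∃ v : α, i • v = v := fun i hi => by
    obtain ⟨v, hv⟩ := exists_fixed_of_twoGroup hα (isPGroup_zpowers_of_twoElt (twoElt_of_sq hi.1))
    exact ⟨v, hv i (Subgroup.mem_zpowers i)⟩
  -- every involution inverts a real element
  have hinvz : ∀ i : P, Inv i → ∃ z : P, RealP z ∧ i * z * i⁻¹ = z⁻¹ := by
    intro i hi
    obtain ⟨h, h1, ho, hh⟩ := Cfsg.Agent.S0200.result i hi.orderOf (by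
      intro N hN hN2 hiN
      obtain ⟨w, hw⟩ := exists_fixed_of_twoGroup hα hN2
      refine hi.2 (FaithfulSMul.eq_of_smul_eq_smul (α := α) fun u => ?_)
      rw [one_smul]
      obtain ⟨g, rfl⟩ := htr w u
      rw [← mul_smul, show i * g = g * (g⁻¹ * i * g) by group, mul_smul,
        hw _ (by simpa using hN.conj_mem i hiN g⁻¹)])
    obtain ⟨n, hn⟩ := exists_realP_pow h1 ho (isConj_iff.mpr ⟨i, hh⟩)
    exact ⟨h ^ n, hn, conj_pow_inverted hh n⟩
  -- centralisers of real elements have odd order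
  have hC : ∀ z c : P, RealP z → Commute c z → TwoElt c → c = 1 := by
    intro z c hz hc h2
    by_contra hne
    obtain ⟨n, h1, h2⟩ := h2.exists_involution hne
    exact hcent z _ hz ⟨h1, h2⟩ (hc.pow_left n)
  -- the centraliser of an involution is transitive on its fixed points
  have horb : ∀ i : P, Inv i → ∀ v w : α, i • v = v → i • w = w →
      ∃ c : P, Commute c i ∧ c • v = w := by
    intro i hi v w hv hw
    obtain ⟨z, hz, hiz⟩ := hinvz i hi
    obtain ⟨c, hc, rfl⟩ := htrans z hz v w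
    set i' := c⁻¹ * i * c with hi'
    have hfix' : i' • v = v := by
      rw [hi', mul_smul, mul_smul, hw, inv_smul_smul]
    have hi'' : Inv i' := by simpa [hi'] using hi.conj c⁻¹
    have hi'z : i' * z * i'⁻¹ = z⁻¹ := by
      rw [hi', show c⁻¹ * i * c * z * (c⁻¹ * i * c)⁻¹ = c⁻¹ * (i * (c * z * c⁻¹) * i⁻¹) * c by group,
        hc.eq, mul_inv_cancel_right, hiz, mul_assoc, ← (hc.inv_right).eq, inv_mul_cancel_left]
    have hcomm : Commute (i * i') z := by
      refine mul_inv_eq_iff_eq_mul.mp ?_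
      rw [show i * i' * z * (i * i')⁻¹ = i * (i' * z * i'⁻¹) * i⁻¹ by group, hi'z,
        show i * z⁻¹ * i⁻¹ = (i * z * i⁻¹)⁻¹ by group, hiz, inv_inv]
    have h2 := hC z _ hz hcomm
      (twoElt_mul_stab hfix (twoElt_of_sq hi.1) (twoElt_of_sq hi''.1) hv hfix')
    have he : i' = i := by
      have := mul_eq_one_iff_inv_eq.mp h2
      rw [hi.inv_eq] at this; exact this.symm
    refine ⟨c, ?_, rfl⟩
    show c * i = i * c
    conv_lhs => rw [← he, hi']
    group
  -- commuting involutions have the same fixed points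
  have hsub : ∀ i j : P, Inv i → Inv j → Commute j i → ∀ w : α, i • w = w → j • w = w := by
    intro i j hi hj hji w hw
    set C := Subgroup.centralizer ({i} : Set P)
    have hno : ∀ d : C, ¬ RealP d := fun d hd =>
      hcent _ i (hd.map (f := C.subtype) Subtype.coe_injective) hi
        (Subgroup.mem_centralizer_singleton_iff.mp d.2).symm
    let R : Subgroup P :=
      { carrier := {a | Commute a i ∧ TwoElt a}
        one_mem' := ⟨Commute.one_left i, TwoElt.one⟩
        mul_mem' := fun {a b} ha hb => ⟨ha.1.mul_left hb.1, by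
          obtain ⟨k, hk⟩ := twoElt_mul hno
            (a := ⟨a, Subgroup.mem_centralizer_singleton_iff.mpr ha.1⟩)
            (b := ⟨b, Subgroup.mem_centralizer_singleton_iff.mpr hb.1⟩)
            (by obtain ⟨k, hk⟩ := ha.2; exact ⟨k, Subtype.ext (by simpa using hk)⟩)
            (by obtain ⟨k, hk⟩ := hb.2; exact ⟨k, Subtype.ext (by simpa using hk)⟩)
          exact ⟨k, by simpa using congrArg Subtype.val hk⟩⟩
        inv_mem' := fun {a} ha => ⟨ha.1.inv_left, ha.2.inv⟩ }
    obtain ⟨u, hu⟩ := exists_fixed_of_twoGroup hα (isPGroup_of_twoElt (A := R) fun g hg => hg.2)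
    obtain ⟨c, hc, rfl⟩ := horb i hi u w (hu i ⟨Commute.refl i, twoElt_of_sq hi.1⟩) hw
    have hmem : c⁻¹ * j * c ∈ R :=
      ⟨(hc.inv_left.mul_left hji).mul_left hc, by simpa using (twoElt_of_sq hj.1).conj c⁻¹⟩
    rw [← mul_smul, show j * c = c * (c⁻¹ * j * c) by group, mul_smul, hu _ hmem]
  let Fx : P → Set α := fun i => {v | i • v = v}
  have hsame : ∀ i j : P, Inv i → Inv j → Commute j i → Fx i = Fx j := fun i j hi hj h =>
    Set.ext fun w => ⟨hsub i j hi hj h w, hsub j i hj hi h.symm w⟩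
  have heven : ∀ i j : P, Inv i → Inv j → ¬ Odd (orderOf (i * j)) →
      ∃ n : ℕ, Inv ((i * j) ^ n) ∧ Fx i = Fx ((i * j) ^ n) ∧ Fx j = Fx ((i * j) ^ n) := by
    intro i j hi hj ho
    obtain ⟨n, h1, h2⟩ := exists_involution_of_even ho
    refine ⟨n, ⟨h1, h2⟩, (hsame _ _ ⟨h1, h2⟩ hi ?_).symm, (hsame _ _ ⟨h1, h2⟩ hj ?_).symm⟩
    · exact commute_of_inverts h1 (conj_pow_inverted (hi.conj_mul hj) n)
    · exact commute_of_inverts h1 (conj_pow_inverted (hi.conj_mul' hj) n)
  have hmeet : ∀ i j : P, Inv i → Inv j → ∀ v : α, i • v = v → j • v = v → Fx i = Fx j := by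
    intro i j hi hj v h1 h2
    have ht := twoElt_mul_stab hfix (twoElt_of_sq hi.1) (twoElt_of_sq hj.1) h1 h2
    by_cases ho : Odd (orderOf (i * j))
    · have := mul_eq_one_iff_inv_eq.mp (ht.eq_one_of_odd ho)
      rw [hi.inv_eq] at this; rw [this]
    · obtain ⟨n, -, e1, e2⟩ := heven i j hi hj ho
      rw [e1, e2]
  -- conjugation moves fixed point sets
  have himg : ∀ (g i : P) (v : α), v ∈ Fx (g * i * g⁻¹) ↔ g⁻¹ • v ∈ Fx i := by
    intro g i v
    show (g * i * g⁻¹) • v = v ↔ i • (g⁻¹ • v) = g⁻¹ • v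
    rw [mul_smul, mul_smul, eq_inv_smul_iff]
  -- an involution fixing a set of fixed points has it as its own
  have hfixblock : ∀ w b : P, Inv w → Inv b → (∀ v ∈ Fx b, w • v ∈ Fx b) → Fx w = Fx b := by
    intro w b hw hb h
    have hcardb : Odd (Nat.card (Fx b)) := by
      have e : Fx b = MulAction.fixedPoints (Subgroup.zpowers b) α := by
        ext v
        refine ⟨fun hv => ?_, fun hv => hv ⟨b, Subgroup.mem_zpowers b⟩⟩
        rintro ⟨_, k, rfl⟩
        have hs : b ∈ MulAction.stabilizer P v := hv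
        exact zpow_mem hs k
      have := (isPGroup_zpowers_of_twoElt (twoElt_of_sq hb.1)).card_modEq_card_fixedPoints α
      rw [← e] at this
      rw [Nat.odd_iff] at hα ⊢
      exact (Eq.symm this).trans hα
    have hb' : ∀ v : Fx b, w • (v : α) ∈ Fx b := fun v => h v v.2
    let σ : Equiv.Perm (Fx b) :=
      { toFun := fun v => ⟨w • v.1, hb' v⟩
        invFun := fun v => ⟨w • v.1, hb' v⟩
        left_inv := fun v => Subtype.ext (by simp [← mul_smul, hw.1])
        right_inv := fun v => Subtype.ext (by simp [← mul_smul, hw.1]) }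
    have hσ : σ ^ 2 ^ 1 = 1 := by
      ext v
      simp [σ, sq, ← mul_smul, hw.1]
    rw [Nat.card_eq_fintype_card] at hcardb
    obtain ⟨⟨v, hv⟩, hvv⟩ := Equiv.Perm.exists_fixed_point_of_prime
      (fun hd => Nat.not_even_iff_odd.mpr hcardb (even_iff_two_dvd.mpr hd)) hσ
    exact hmeet w b hw hb v (congrArg Subtype.val hvv) hv
  -- counting
  let I := {i : P // Inv i}
  let B := ↥(Set.range fun i : I => Fx i.1)
  let img : I → B → B := fun w b => ⟨Fx (w.1 * (b.2.choose).1 * w.1⁻¹),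
    ⟨⟨_, (b.2.choose).2.conj w.1⟩, rfl⟩⟩
  have hch : ∀ b : B, Fx (b.2.choose).1 = b.1 := fun b => b.2.choose_spec
  have himg' : ∀ (w : I) (b : B) (v : α), v ∈ (img w b).1 ↔ w.1 • v ∈ b.1 := by
    intro w b v
    show v ∈ Fx (w.1 * (b.2.choose).1 * w.1⁻¹) ↔ _
    rw [himg, w.2.inv_eq, hch b]
  let toB : I → B := fun i => ⟨Fx i.1, i, rfl⟩
  have hmove : ∀ (w : I) (b : B), b ≠ toB w → img w b ≠ b := by
    intro w b hne he
    refine hne (Subtype.ext ?_)
    show b.1 = Fx w.1
    rw [← hch b]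
    refine (hfixblock w.1 _ w.2 (b.2.choose).2 fun v hv => ?_).symm
    rw [hch b] at hv ⊢
    rw [← himg', he]
    exact hv
  have hinj : ∀ (w w' : I) (b : B), b ≠ toB w → img w b = img w' b → w = w' := by
    intro w w' b hne he
    by_contra hww
    have hd : ∀ v ∈ b.1, (w.1 * w'.1) • v ∈ b.1 := by
      intro v hv
      have h1 : w'.1 • v ∈ (img w' b).1 := by
        rw [himg', ← mul_smul, w'.2.1, one_smul]; exact hv
      rw [← he, himg'] at h1
      rwa [mul_smul]
    have hdn : ∀ n : ℕ, ∀ v ∈ b.1, ((w.1 * w'.1) ^ n) • v ∈ b.1 := by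
      intro n
      induction n with
      | zero => intro v hv; simpa using hv
      | succ n ih => intro v hv; rw [pow_succ', mul_smul]; exact hd _ (ih v hv)
    by_cases ho : Odd (orderOf (w.1 * w'.1))
    · obtain ⟨n, hn⟩ := exists_realP_pow (d := w.1 * w'.1)
        (fun e => hww (Subtype.ext (by
          have := mul_eq_one_iff_inv_eq.mp e
          rw [w.2.inv_eq] at this; exact this)))
        ho (isConj_iff.mpr ⟨w.1, w.2.conj_mul w'.2⟩)
      set e := (w.1 * w'.1) ^ n with he'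
      have hwe : w.1 * e * w.1⁻¹ = e⁻¹ := conj_pow_inverted (w.2.conj_mul w'.2) n
      -- `e` fixes every block
      obtain ⟨v, hv⟩ := hfp _ (b.2.choose).2
      have hvb : v ∈ b.1 := by rw [← hch b]; exact hv
      obtain ⟨u, hu⟩ := hfp _ w.2
      obtain ⟨c, hc, rfl⟩ := htrans e hn v u
      have hblock : Fx (c * (b.2.choose).1 * c⁻¹) = Fx w.1 :=
        hmeet _ _ ((b.2.choose).2.conj c) w.2 (c • v) (by
          have : c • v ∈ Fx (c * (b.2.choose).1 * c⁻¹) := by rw [himg, inv_smul_smul]; exact hv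
          exact this) hu
      have h2 : e • (c • v) ∈ Fx w.1 := by
        rw [← hblock, himg, ← mul_smul, ← mul_smul, mul_assoc, ← hc.eq, inv_mul_cancel_left, hch b]
        exact hdn n v hvb
      have h3 : (e⁻¹ * w.1 * e) • (c • v) = c • v := by
        rw [mul_smul, mul_smul]
        show e⁻¹ • (w.1 • (e • c • v)) = c • v
        rw [h2, inv_smul_smul]
      have h4 := twoElt_mul_stab hfix (twoElt_of_sq w.2.1)
        (twoElt_of_sq (by simpa using (w.2.conj e⁻¹).1)) hu h3
      rw [show w.1 * (e⁻¹ * w.1 * e) = (w.1 * e * w.1⁻¹)⁻¹ * e by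
        rw [w.2.inv_eq, mul_inv_rev, mul_inv_rev, w.2.inv_eq]; group, hwe, inv_inv] at h4
      refine hn.sq_ne_one (h4.eq_one_of_odd (hn.odd.of_dvd_nat ?_))
      rw [← sq]; exact orderOf_pow_dvd 2
    · obtain ⟨n, hz, e1, -⟩ := heven _ _ w.2 w'.2 ho
      refine hne (Subtype.ext ?_)
      show b.1 = Fx w.1
      rw [e1, ← hch b]
      refine (hfixblock _ _ hz (b.2.choose).2 fun v hv => ?_).symm
      rw [hch b] at hv ⊢
      exact hdn n v hv
  let A := {p : I × B // p.2 ≠ toB p.1}
  let D := {p : B × B // p.1 ≠ p.2}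
  let Φ : A → D := fun p => ⟨(p.1.2, img p.1.1 p.1.2), fun e => hmove _ _ p.2 e.symm⟩
  have hΦ : Function.Injective Φ := by
    rintro ⟨⟨w, b⟩, hp⟩ ⟨⟨w', b'⟩, hp'⟩ h
    have h' := congrArg Subtype.val h
    simp only [Φ, Prod.mk.injEq] at h'
    obtain ⟨rfl, h2⟩ := h'
    obtain rfl := hinj w w' b hp h2
    rfl
  have h1 := Fintype.card_le_of_injective Φ hΦ
  have hA : Fintype.card A = Fintype.card I * (Fintype.card B - 1) := by
    rw [Fintype.card_congr (show A ≃ Σ w : I, {b : B // b ≠ toB w} from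
      { toFun := fun p => ⟨p.1.1, p.1.2, p.2⟩
        invFun := fun p => ⟨(p.1, p.2.1), p.2.2⟩
        left_inv := fun p => rfl
        right_inv := fun p => rfl }), Fintype.card_sigma]
    simp [Fintype.card_subtype_compl]
  have hD : Fintype.card D = Fintype.card B * (Fintype.card B - 1) := by
    rw [Fintype.card_congr (show D ≃ Σ b : B, {b' : B // b' ≠ b} from
      { toFun := fun p => ⟨p.1.1, p.1.2, Ne.symm p.2⟩
        invFun := fun p => ⟨(p.1, p.2.1), Ne.symm p.2.2⟩
        left_inv := fun p => rfl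
        right_inv := fun p => rfl }), Fintype.card_sigma]
    simp [Fintype.card_subtype_compl]
  rw [hA, hD] at h1
  have hB2 : 1 < Fintype.card B := by
    rw [Fintype.one_lt_card_iff]
    obtain ⟨u, hu⟩ : ∃ u : α, i • u ≠ u := by
      by_contra hcon
      push Not at hcon
      exact hi0.2 (FaithfulSMul.eq_of_smul_eq_smul (α := α) fun u => by rw [hcon u, one_smul])
    obtain ⟨g, rfl⟩ := htr v₀ u
    refine ⟨toB ⟨i, hi0⟩, toB ⟨g * i * g⁻¹, hi0.conj g⟩, fun e => hu ?_⟩
    have : g • v₀ ∈ Fx i := by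
      rw [show Fx i = Fx (g * i * g⁻¹) from congrArg Subtype.val e, himg, inv_smul_smul]
      exact hiv
    exact this
  have hle : Fintype.card I ≤ Fintype.card B := Nat.le_of_mul_le_mul_right h1 (by omega)
  have hsurj : Function.Surjective toB := by
    rintro ⟨_, w, rfl⟩; exact ⟨w, rfl⟩
  have hbij := (Fintype.bijective_iff_surjective_and_card toB).mpr
    ⟨hsurj, le_antisymm hle (Fintype.card_le_of_surjective _ hsurj)⟩
  exact congrArg Subtype.val (hbij.1 (a₁ := ⟨i, hi0⟩) (a₂ := ⟨j, hj0⟩)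
    (Subtype.ext (hmeet i j hi0 hj0 v₀ hiv hjv)))

end CfsgLib.S4187
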