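import Cfsg.Agent.Lib.S4187.Setup
import Cfsg.Agent.Lib.S4187.Pairs

/-!
A group with the setting of S4187 is solvable.
-/

set_option autoImplicit false

namespace CfsgLib.S4187

universe u

variable {G O : Type u} [Group G] [MulAction G O]

theorem mem_conjMap {c g : G} {A : Subgroup G} :
    g ∈ A.map (MulAut.conj c).toMonoidHom ↔ c⁻¹ * g * c ∈ A := by
  constructor
  · rintro ⟨a, ha, rfl⟩
    simpa [mul_assoc] using ha
  · intro hg
    exact ⟨_, hg, by simp [mul_assoc]⟩

theorem mem_normalizer_sup {z : G} {A B : Subgroup G} (hA : z ∈ Subgroup.normalizer (A : Set G))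
    (hB : z ∈ Subgroup.normalizer (B : Set G)) : z ∈ Subgroup.normalizer ((A ⊔ B : Subgroup G) : Set G) := by
  rw [Subgroup.mem_normalizer_iff_map_conj_eq] at hA hB ⊢
  rw [Subgroup.map_sup, hA, hB]

theorem mem_normalizer_conjMap {z c : G} {A : Subgroup G} (hc : Commute c z)
    (hA : z ∈ Subgroup.normalizer (A : Set G)) :
    z ∈ Subgroup.normalizer ((A.map (MulAut.conj c).toMonoidHom : Subgroup G) : Set G) := by
  rw [Subgroup.mem_normalizer_iff_map_conj_eq] at hA ⊢
  rw [Subgroup.map_map]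
  conv_rhs => rw [← hA, Subgroup.map_map]
  congr 1
  ext a
  show z * (c * a * c⁻¹) * z⁻¹ = c * (z * a * z⁻¹) * c⁻¹
  rw [show z * (c * a * c⁻¹) * z⁻¹ = (z * c) * a * (z * c)⁻¹ by group,
    show c * (z * a * z⁻¹) * c⁻¹ = (c * z) * a * (c * z)⁻¹ by group, hc.eq]

theorem conj_mem_normalizer_map {z : G} {A : Subgroup G} (hA : z ∈ Subgroup.normalizer (A : Set G))
    (g : G) : g * z * g⁻¹ ∈
      Subgroup.normalizer ((A.map (MulAut.conj g).toMonoidHom : Subgroup G) : Set G) := by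
  rw [Subgroup.mem_normalizer_iff_map_conj_eq] at hA ⊢
  rw [Subgroup.map_map]
  conv_rhs => rw [← hA, Subgroup.map_map]
  congr 1
  ext a
  show g * z * g⁻¹ * (g * a * g⁻¹) * (g * z * g⁻¹)⁻¹ = g * (z * a * z⁻¹) * g⁻¹
  group

variable [Finite G]

theorem isSolvable_sup_normal (L A : Subgroup G) [L.Normal] [Group.IsSolvable L] [Group.IsSolvable A] :
    Group.IsSolvable (L ⊔ A : Subgroup G) := by
  let f : (L ⊔ A : Subgroup G) →* G ⧸ L := (QuotientGroup.mk' L).comp (L ⊔ A).subtype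
  have hle : f.range ≤ A.map (QuotientGroup.mk' L) := by
    rintro _ ⟨⟨x, hx⟩, rfl⟩
    obtain ⟨l, hl, a, ha, rfl⟩ := Subgroup.mem_sup_of_normal_left.mp hx
    exact ⟨a, ha, by simp [f, (QuotientGroup.eq_one_iff l).mpr hl]⟩
  have : Group.IsSolvable (A.map (QuotientGroup.mk' L)) :=
    Group.isSolvable_of_surjective ((QuotientGroup.mk' L).subgroupMap_surjective A)
  have : Group.IsSolvable f.range :=
    Group.isSolvable_of_isSolvable_injective (Subgroup.inclusion_injective hle)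
  refine Group.isSolvable_of_ker_le_range (Subgroup.inclusion (le_sup_left : L ≤ L ⊔ A)) f.rangeRestrict ?_
  intro x hx
  rw [MonoidHom.ker_rangeRestrict, MonoidHom.mem_ker] at hx
  exact ⟨⟨x, (QuotientGroup.eq_one_iff _).mp hx⟩, rfl⟩

variable [Finite O]

namespace Setup

variable (h : Setup G O)
include h

theorem exists_fixed {A : Subgroup G} (hA : IsPGroup 2 A) : ∃ v : O, ∀ a ∈ A, a • v = v := by
  obtain ⟨v, hv⟩ := hA.nonempty_fixed_point_of_prime_not_dvd_card O
    (fun hd => Nat.not_even_iff_odd.mpr h.odd_card (even_iff_two_dvd.mpr hd))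
  exact ⟨v, fun a ha => hv ⟨a, ha⟩⟩

omit [Finite O] in
theorem stab_solvable (v : O) : Group.IsSolvable (MulAction.stabilizer G v) :=
  solvable_of_noReal fun d hd =>
    h.noFix _ v (hd.map (f := (MulAction.stabilizer G v).subtype) Subtype.coe_injective) d.2

omit [Finite O] in
theorem twoElt_mul_fix {v : O} {a b : G} (ha : TwoElt a) (hb : TwoElt b) (hav : a • v = v)
    (hbv : b • v = v) : TwoElt (a * b) := by
  obtain ⟨k, hk⟩ := twoElt_mul (G := MulAction.stabilizer G v) (fun d hd =>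
    h.noFix _ v (hd.map (f := (MulAction.stabilizer G v).subtype) Subtype.coe_injective) d.2)
    (a := ⟨a, hav⟩) (b := ⟨b, hbv⟩)
    (by obtain ⟨k, hk⟩ := ha; exact ⟨k, Subtype.ext (by simpa using hk)⟩)
    (by obtain ⟨k, hk⟩ := hb; exact ⟨k, Subtype.ext (by simpa using hk)⟩)
  exact ⟨k, by simpa using congrArg Subtype.val hk⟩

/-- the 2-elements fixing a point -/
def twoPart (v : O) : Subgroup G where
  carrier := {g | g • v = v ∧ TwoElt g}
  one_mem' := ⟨one_smul G v, TwoElt.one⟩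
  mul_mem' := fun {a b} ha hb =>
    ⟨by rw [mul_smul, hb.1, ha.1], h.twoElt_mul_fix ha.2 hb.2 ha.1 hb.1⟩
  inv_mem' := fun {a} ha => ⟨by rw [inv_smul_eq_iff, ha.1], ha.2.inv⟩

omit [Finite O] in
theorem mem_twoPart {v : O} {g : G} : g ∈ h.twoPart v ↔ g • v = v ∧ TwoElt g := Iff.rfl

omit [Finite O] in
theorem isPGroup_twoPart (v : O) : IsPGroup 2 (h.twoPart v) :=
  isPGroup_of_twoElt fun _ hg => hg.2

omit [Finite O] in
theorem le_twoPart {A : Subgroup G} (hA : IsPGroup 2 A) {v : O} (hv : ∀ a ∈ A, a • v = v) :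
    A ≤ h.twoPart v := fun a ha => ⟨hv a ha, twoElt_of_mem hA ha⟩

omit [Finite O] in
theorem conj_mem_twoPart {v : O} {g : G} (hg : g ∈ h.twoPart v) (c : G) :
    c * g * c⁻¹ ∈ h.twoPart (c • v) :=
  ⟨by rw [mul_smul, mul_smul, inv_smul_smul, hg.1], hg.2.conj c⟩

/-- a nontrivial solvable normal subgroup allows induction -/
theorem eq_bot_of_solvable (hns : ¬ Group.IsSolvable G)
    (ih : ∀ (G' O' : Type u) [Group G'] [MulAction G' O'] [Finite G'] [Finite O'],
      Nat.card G' < Nat.card G → Setup G' O' → Group.IsSolvable G')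
    (L : Subgroup G) [L.Normal] (hL : Group.IsSolvable L) : L = ⊥ := by
  by_contra hne
  obtain ⟨v₀, -⟩ := h.exists_fixed (A := ⊥) IsPGroup.of_bot
  have := h.stab_solvable v₀
  set H := L ⊔ MulAction.stabilizer G v₀
  have hH : Group.IsSolvable H := isSolvable_sup_normal L _
  let φ := MulAction.toPermHom G (G ⧸ H)
  have hkerH : φ.ker ≤ H := by
    intro g hg
    have e : φ g (QuotientGroup.mk 1 : G ⧸ H) = QuotientGroup.mk 1 := by
      rw [MonoidHom.mem_ker.mp hg]; rfl
    change ((g * 1 : G) : G ⧸ H) = ((1 : G) : G ⧸ H) at e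
    simpa [QuotientGroup.eq] using e
  have hLker : L ≤ φ.ker := by
    intro l hl
    rw [MonoidHom.mem_ker]
    ext x
    obtain ⟨g, rfl⟩ := QuotientGroup.mk_surjective x
    show ((l * g : G) : G ⧸ H) = (g : G ⧸ H)
    rw [QuotientGroup.eq, show (l * g)⁻¹ * g = g⁻¹ * l⁻¹ * g by group]
    exact Subgroup.mem_sup_left (by simpa using ‹L.Normal›.conj_mem _ (inv_mem hl) g⁻¹)
  have : Group.IsSolvable φ.ker :=
    Group.isSolvable_of_isSolvable_injective (Subgroup.inclusion_injective hkerH)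
  have hlt : Nat.card φ.range < Nat.card G := by
    rw [← φ.ker.card_mul_index, Subgroup.index_ker]
    refine lt_mul_of_one_lt_left Nat.card_pos (lt_of_lt_of_le ?_ (Subgroup.card_le_of_le hLker))
    exact (Subgroup.one_lt_card_iff_ne_bot _).mpr hne
  have hcoset : ∀ (z : G), RealP z → ∀ v w : G ⧸ H, ∃ c : G, Commute c z ∧ c • v = w := by
    intro z hz v w
    obtain ⟨g, rfl⟩ := QuotientGroup.mk_surjective v
    obtain ⟨g', rfl⟩ := QuotientGroup.mk_surjective w
    obtain ⟨c, hc, hcg⟩ := h.centTrans z hz (g • v₀) (g' • v₀)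
    refine ⟨c, hc, ?_⟩
    show ((c * g : G) : G ⧸ H) = (g' : G ⧸ H)
    rw [QuotientGroup.eq]
    refine Subgroup.mem_sup_right ?_
    show ((c * g)⁻¹ * g') • v₀ = v₀
    rw [mul_smul, ← hcg, ← mul_smul c, inv_smul_smul]
  have hlift : ∀ z : φ.range, RealP z → ∃ d : G, φ.rangeRestrict d = z ∧ RealP d := by
    intro z hz
    obtain ⟨n', hn'⟩ := isConj_iff.mp hz.2.2
    obtain ⟨n, rfl⟩ := φ.rangeRestrict_surjective n'
    obtain ⟨a, ha⟩ := φ.rangeRestrict_surjective z
    exact exists_real_lift φ.rangeRestrict hz ha hn'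
  refine hns ?_
  have hs : Group.IsSolvable φ.range := by
    refine ih φ.range (G ⧸ H) hlt ⟨?_, ?_, ?_, ?_⟩
    · rw [← Subgroup.index_eq_card]
      have : MulAction.IsPretransitive G O := ⟨h.trans⟩
      refine h.odd_card.of_dvd_nat ?_
      rw [← MulAction.index_stabilizer_of_transitive G v₀]
      exact Subgroup.index_dvd_of_le le_sup_right
    · intro v w
      obtain ⟨g, hg⟩ := MulAction.exists_smul_eq G v w
      exact ⟨φ.rangeRestrict g, hg⟩
    · intro z v hz hzv
      obtain ⟨d, rfl, hd⟩ := hlift z hz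
      refine hz.1 (Subtype.ext (Equiv.ext fun w => ?_))
      obtain ⟨c, hc, rfl⟩ := hcoset d hd v w
      show d • c • v = c • v
      rw [← mul_smul, ← hc.eq, mul_smul]
      exact congrArg (c • ·) hzv
    · intro z hz v w
      obtain ⟨d, rfl, hd⟩ := hlift z hz
      obtain ⟨c, hc, hcv⟩ := hcoset d hd v w
      exact ⟨φ.rangeRestrict c, hc.map _, hcv⟩
  exact Group.isSolvable_of_ker_le_range φ.ker.subtype φ.rangeRestrict (by simp)

omit [Finite O] in
/-- two 2-groups at one point normalised by a real element, one of them maximal -/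
theorem le_of_maximal {Q A : Subgroup G} {z : G} {v : O}
    (hQ : IsPGroup 2 Q) (hA : IsPGroup 2 A)
    (hmax : ∀ B : Subgroup G, IsPGroup 2 B → (∃ z, RealP z ∧ z ∈ Subgroup.normalizer (B : Set G)) →
      Q ≤ B → B ≤ Q)
    (hz : RealP z) (hzQ : z ∈ Subgroup.normalizer (Q : Set G))
    (hzA : z ∈ Subgroup.normalizer (A : Set G))
    (hQv : ∀ a ∈ Q, a • v = v) (hAv : ∀ a ∈ A, a • v = v) : A ≤ Q :=
  le_sup_right.trans (hmax (Q ⊔ A)
    ((h.isPGroup_twoPart v).to_le (sup_le (h.le_twoPart hQ hQv) (h.le_twoPart hA hAv)))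
    ⟨z, hz, mem_normalizer_sup hzQ hzA⟩ le_sup_left)

/-- a central involution outside a maximal 2-group inverts the real element, which centralises it -/
theorem inverts_of_not_mem {Q : Subgroup G} {y : G} {t : O} (hQ : IsPGroup 2 Q)
    (hmax : ∀ B : Subgroup G, IsPGroup 2 B → (∃ z, RealP z ∧ z ∈ Subgroup.normalizer (B : Set G)) →
      Q ≤ B → B ≤ Q)
    (hy : RealP y) (hyQ : y ∈ Subgroup.normalizer (Q : Set G)) (ht : ∀ a ∈ Q, a • t = t)
    {u : G} (hu : u ∈ h.twoPart t) (hu2 : u * u = 1) (hu1 : u ≠ 1)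
    (huc : ∀ s ∈ h.twoPart t, Commute u s) (huQ : u ∉ Q) :
    (∀ q ∈ Q, Commute q y) ∧ u * y * u⁻¹ = y⁻¹ := by
  classical
  set S := h.twoPart t
  have hQS : Q ≤ S := h.le_twoPart hQ ht
  set M := Subgroup.normalizer (Q : Set G)
  -- transitivity on the fixed points
  have hFtr : ∀ z : G, RealP z → z ∈ M → ∀ v w : O, (∀ q ∈ Q, q • v = v) → (∀ q ∈ Q, q • w = w) →
      ∃ c : G, c ∈ M ∧ Commute c z ∧ c • v = w := by
    intro z hz hzM v w hv hw
    obtain ⟨c, hc, hcv⟩ := h.centTrans z hz v w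
    refine ⟨c, ?_, hc, hcv⟩
    rw [Subgroup.mem_normalizer_iff_map_conj_eq]
    refine Subgroup.eq_of_le_of_card_ge
      (h.le_of_maximal hQ (hQ.map _) hmax hz hzM (mem_normalizer_conjMap hc hzM) hw ?_) ?_
    · rintro _ ⟨a, ha, rfl⟩
      show (c * a * c⁻¹) • w = w
      rw [← hcv, mul_smul, mul_smul, inv_smul_smul, hv a ha]
    · rw [Subgroup.card_map_of_injective (MulAut.conj c).injective]
  -- an inverter at `t`
  obtain ⟨g, hgS, hgM, hgy⟩ : ∃ g : G, g ∈ S ∧ g ∈ M ∧ g * y * g⁻¹ = y⁻¹ := by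
    obtain ⟨g0, hg0⟩ := isConj_iff.mp hy.2.2
    obtain ⟨c, hc, hcv⟩ := h.centTrans y hy t (g0⁻¹ • t)
    have hg1 : g0 * c * y * (g0 * c)⁻¹ = y⁻¹ := by
      rw [show g0 * c * y * (g0 * c)⁻¹ = g0 * (c * y * c⁻¹) * g0⁻¹ by group, hc.eq,
        mul_inv_cancel_right, hg0]
    have hg1t : (g0 * c) • t = t := by rw [mul_smul, hcv, smul_inv_smul]
    have hg1M : g0 * c ∈ M := by
      rw [Subgroup.mem_normalizer_iff_map_conj_eq]
      refine Subgroup.eq_of_le_of_card_ge (h.le_of_maximal hQ (hQ.map _) hmax hy hyQ ?_ ht ?_) ?_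
      · have h2 := conj_mem_normalizer_map (Subgroup.inv_mem _ hyQ) (g0 * c)
        rwa [show g0 * c * y⁻¹ * (g0 * c)⁻¹ = (g0 * c * y * (g0 * c)⁻¹)⁻¹ by group, hg1, inv_inv] at h2
      · rintro _ ⟨a, ha, rfl⟩
        show (g0 * c * a * (g0 * c)⁻¹) • t = t
        rw [mul_smul (g0 * c * a), inv_smul_eq_iff.mpr hg1t.symm, mul_smul, ht a ha, hg1t]
      · rw [Subgroup.card_map_of_injective (MulAut.conj _).injective]
    obtain ⟨m, hm, hm2⟩ := exists_odd_twoElt (g0 * c)
    refine ⟨(g0 * c) ^ m, ⟨?_, hm2⟩, Subgroup.pow_mem _ hg1M m, inverts_odd_pow hg1 hm⟩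
    have : g0 * c ∈ MulAction.stabilizer G t := hg1t
    exact pow_mem this m
  have huM : u ∈ M := by
    rw [Subgroup.mem_normalizer_iff_map_conj_eq]
    refine Subgroup.eq_of_le_of_card_ge ?_ (by rw [Subgroup.card_map_of_injective (MulAut.conj u).injective])
    rintro _ ⟨a, ha, rfl⟩
    show u * a * u⁻¹ ∈ Q
    rw [(huc a (hQS ha)).eq, mul_inv_cancel_right]; exact ha
  -- the action on the fixed points
  let F := {v : O // ∀ q ∈ Q, q • v = v}
  have hFinv : ∀ (m : M) (v : F), ∀ q ∈ Q, q • ((m : G) • v.1) = (m : G) • v.1 := by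
    intro m v q hq
    have hq' : (m : G)⁻¹ * q * m ∈ Q := by
      have := (Subgroup.mem_normalizer_iff.mp (Subgroup.inv_mem _ m.2) q).mp hq
      rwa [inv_inv] at this
    rw [← mul_smul, show q * (m : G) = m * ((m : G)⁻¹ * q * m) by group, mul_smul, v.2 _ hq']
  let : MulAction M F :=
    { smul := fun m v => ⟨(m : G) • v.1, hFinv m v⟩
      one_smul := fun v => Subtype.ext (one_smul G _)
      mul_smul := fun a b v => Subtype.ext (mul_smul (a : G) (b : G) _) }
  have hsm : ∀ (m : M) (v : F), ((m • v : F) : O) = (m : G) • v.1 := fun _ _ => rfl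
  let f := (MulAction.toPermHom M F).rangeRestrict
  have hfsurj : Function.Surjective f := MonoidHom.rangeRestrict_surjective _
  let t' : F := ⟨t, ht⟩
  have hf : ∀ (m : M) (v : F), f m • v = m • v := fun _ _ => rfl
  -- 2-elements of the kernel lie in `Q`
  have hker : ∀ m : M, f m = 1 → TwoElt (m : G) → (m : G) ∈ Q := by
    let N2 : Subgroup G := (h.twoPart t) ⊓ (f.ker.map M.subtype)
    have hN2v : ∀ a ∈ N2, a • t = t := fun a ha => ha.1.1
    have hNy : y ∈ Subgroup.normalizer (N2 : Set G) := by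
      rw [Subgroup.mem_normalizer_iff_map_conj_eq]
      refine Subgroup.eq_of_le_of_card_ge ?_
        (by rw [Subgroup.card_map_of_injective (MulAut.conj y).injective])
      rintro _ ⟨_, ⟨ha1, m, hm, rfl⟩, rfl⟩
      set m' : M := ⟨y, hyQ⟩ * m * ⟨y, hyQ⟩⁻¹
      have hm' : f m' = 1 := by
        rw [map_mul, map_mul, MonoidHom.mem_ker.mp hm, mul_one, ← map_mul, mul_inv_cancel, map_one]
      refine ⟨⟨?_, ha1.2.conj y⟩, m', MonoidHom.mem_ker.mpr hm', rfl⟩
      have := hf m' t'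
      rw [hm', one_smul] at this
      exact (congrArg Subtype.val this).symm
    have hle := h.le_of_maximal hQ ((h.isPGroup_twoPart t).to_le inf_le_left) hmax hy hyQ hNy ht hN2v
    intro m hm h2
    refine hle ⟨⟨?_, h2⟩, m, MonoidHom.mem_ker.mpr hm, rfl⟩
    have := hf m t'
    rw [hm, one_smul] at this
    exact (congrArg Subtype.val this).symm
  -- real elements of the image
  have hlift : ∀ z : (MulAction.toPermHom M F).range, RealP z → ∃ d : M, f d = z ∧ RealP (d : G) := by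
    intro z hz
    obtain ⟨n', hn'⟩ := isConj_iff.mp hz.2.2
    obtain ⟨n, rfl⟩ := hfsurj n'
    obtain ⟨a, ha⟩ := hfsurj z
    obtain ⟨d, hd, hd'⟩ := exists_real_lift f hz ha hn'
    exact ⟨d, hd, hd'.map (f := M.subtype) Subtype.coe_injective⟩
  have htrF : ∀ z : G, RealP z → ∀ (hzM : z ∈ M) (v w : F),
      ∃ c : M, Commute c ⟨z, hzM⟩ ∧ c • v = w := by
    intro z hz hzM v w
    obtain ⟨c, hcM, hc, hcv⟩ := hFtr z hz hzM v.1 w.1 v.2 w.2
    exact ⟨⟨c, hcM⟩, Subtype.ext hc, Subtype.ext hcv⟩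
  have hFodd : Odd (Nat.card F) := by
    have := hQ.card_modEq_card_fixedPoints O
    have e : Nat.card (MulAction.fixedPoints Q O) = Nat.card F :=
      Nat.card_congr (Equiv.subtypeEquivRight fun v =>
        ⟨fun hv q hq => hv ⟨q, hq⟩, fun hv q => hv q.1 q.2⟩)
    rw [e] at this
    have ho := h.odd_card
    rw [Nat.odd_iff] at ho ⊢
    exact (Eq.symm this).trans ho
  have hnofix : ∀ (z : (MulAction.toPermHom M F).range) (v : F), RealP z → z • v ≠ v := by
    intro z v hz hzv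
    obtain ⟨d, rfl, hd⟩ := hlift z hz
    exact h.noFix _ v.1 hd (congrArg Subtype.val hzv)
  have hcent : ∀ z s : (MulAction.toPermHom M F).range, RealP z → Inv s → ¬ Commute s z := by
    intro z s hz hs hsz
    set C := Subgroup.centralizer ({z} : Set (MulAction.toPermHom M F).range)
    obtain ⟨T⟩ : Nonempty (Sylow 2 C) := inferInstance
    set T' := (T : Subgroup C).map C.subtype
    have hTz : ∀ a ∈ T', Commute a z := by
      rintro _ ⟨a, -, rfl⟩; exact Subgroup.mem_centralizer_singleton_iff.mp a.2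
    have hTne : T' ≠ ⊥ := by
      intro e
      rw [Subgroup.map_eq_bot_iff_of_injective _ Subtype.coe_injective] at e
      have h2 : IsPGroup 2 (Subgroup.zpowers (⟨s, Subgroup.mem_centralizer_singleton_iff.mpr hsz⟩ : C)) :=
        isPGroup_zpowers_of_twoElt ⟨1, Subtype.ext (by simpa [sq] using hs.1)⟩
      obtain ⟨T2, hT2⟩ := h2.exists_le_sylow
      obtain ⟨c, hc⟩ := MulAction.exists_smul_eq C T T2
      have h3 := hT2 (Subgroup.mem_zpowers _)
      rw [← hc, Sylow.smul_def] at h3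
      obtain ⟨a, ha, hae⟩ := h3
      rw [e, SetLike.mem_coe, Subgroup.mem_bot] at ha
      subst ha
      exact hs.2 (by simpa using (congrArg Subtype.val hae).symm)
    -- an inverter normalising `T'`
    obtain ⟨n0, hn0⟩ := isConj_iff.mp hz.2.2
    have hn0C : n0 ∈ Subgroup.normalizer (C : Set (MulAction.toPermHom M F).range) := by
      rw [Subgroup.mem_normalizer_iff]
      intro a
      simp only [SetLike.mem_coe, C, Subgroup.mem_centralizer_singleton_iff]
      constructor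
      · intro ha
        have h1 := ((show Commute a z from ha).inv_right).map (MulAut.conj n0).toMonoidHom
        simp only [MulEquiv.coe_toMonoidHom, MulAut.conj_apply] at h1
        rw [show n0 * z⁻¹ * n0⁻¹ = (n0 * z * n0⁻¹)⁻¹ by group, hn0, inv_inv] at h1
        exact h1
      · intro ha
        have h1 : Commute (n0 * a * n0⁻¹) z⁻¹ := (show Commute _ z from ha).inv_right
        rw [← hn0] at h1
        have h2 := h1.map (MulAut.conj n0⁻¹).toMonoidHom
        have h3 : Commute a z := by simpa [mul_assoc] using h2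
        exact h3
    obtain ⟨c0, hc0, hnT⟩ := exists_mul_normalizer hn0C T
    have hnz : c0 * n0 * z * (c0 * n0)⁻¹ = z⁻¹ := by
      rw [show c0 * n0 * z * (c0 * n0)⁻¹ = c0 * (n0 * z * n0⁻¹) * c0⁻¹ by group, hn0,
        (show Commute c0 z from Subgroup.mem_centralizer_singleton_iff.mp hc0).inv_right.eq,
        mul_inv_cancel_right]
    have hzT : z ∈ Subgroup.normalizer (T' : Set (MulAction.toPermHom M F).range) := by
      rw [Subgroup.mem_normalizer_iff]
      intro a
      refine ⟨fun ha => by rw [← (hTz a ha).eq, mul_inv_cancel_right]; exact ha, fun ha => ?_⟩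
      have e := (hTz _ ha).eq
      have e2 : z * a * z⁻¹ = a := by
        exact (MulAut.conj z).injective (by simpa [mul_assoc] using
          (show z * (z * a * z⁻¹) * z⁻¹ = z * a * z⁻¹ by rw [← (hTz _ ha).eq, mul_inv_cancel_right]))
      exact e2 ▸ ha
    -- the preimage of `T'` and its Sylow subgroup
    set H1 := T'.comap f
    obtain ⟨R⟩ : Nonempty (Sylow 2 H1) := inferInstance
    set Q1 := (R : Subgroup H1).map H1.subtype
    have hQ1T : ∀ a ∈ T', ∃ q ∈ Q1, f q = a := by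
      intro a ha
      have hs' : Function.Surjective (f.subgroupComap T') :=
        fun b => by
          obtain ⟨m, hm⟩ := hfsurj b.1
          exact ⟨⟨m, show f m ∈ T' by rw [hm]; exact b.2⟩, Subtype.ext hm⟩
      have h2 := (T.2.map C.subtype)
      have htop : ((R.mapSurjective hs' : Sylow 2 T') : Subgroup T') = ⊤ := by
        exact le_antisymm le_top
          (IsPGroup.le_sylow_of_normal (h2.of_equiv Subgroup.topEquiv.symm) (R.mapSurjective hs'))
      have : (⟨a, ha⟩ : T') ∈ ((R.mapSurjective hs' : Sylow 2 T') : Subgroup T') := by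
        rw [htop]; exact Subgroup.mem_top _
      rw [Sylow.coe_mapSurjective] at this
      obtain ⟨q, hq, hqa⟩ := this
      exact ⟨q, ⟨q, hq, rfl⟩, congrArg Subtype.val hqa⟩
    have hexact : ∀ b, b ∈ Subgroup.normalizer (T' : Set (MulAction.toPermHom M F).range) →
        ∃ m ∈ Subgroup.normalizer (Q1 : Set M), f m = b := by
      intro b hb
      obtain ⟨m, rfl⟩ := hfsurj b
      have hmH : m ∈ Subgroup.normalizer (H1 : Set M) := by
        rw [Subgroup.mem_normalizer_iff]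
        intro a
        simp only [SetLike.mem_coe, H1, Subgroup.mem_comap, map_mul, map_inv]
        exact Subgroup.mem_normalizer_iff.mp hb (f a)
      obtain ⟨k, hk, hkm⟩ := exists_mul_normalizer hmH R
      obtain ⟨q, hq, hqk⟩ := hQ1T (f k)⁻¹ (inv_mem hk)
      exact ⟨q * (k * m), mul_mem (Subgroup.le_normalizer hq) hkm,
        by rw [map_mul, map_mul, hqk, inv_mul_cancel_left]⟩
    obtain ⟨m1, hm1, hm1z⟩ := hexact z hzT
    obtain ⟨m2, hm2, hm2n⟩ := hexact (c0 * n0) hnT
    obtain ⟨d, hdz, hd⟩ := exists_real_lift (f.comp (Subgroup.normalizer (Q1 : Set M)).subtype) hz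
      (a0 := ⟨m1, hm1⟩) (n := ⟨m2, hm2⟩) hm1z
      (by show f m2 * z * (f m2)⁻¹ = z⁻¹; rw [hm2n, hnz])
    -- contradiction with maximality
    set Q2 := Q1.map M.subtype
    have hQQ2 : Q ≤ Q2 := by
      let Qh : Subgroup H1 := (Q.comap M.subtype).comap H1.subtype
      have hQker : ∀ q (hq : q ∈ Q), (⟨q, Subgroup.le_normalizer hq⟩ : M) ∈ H1 := by
        intro q hq
        show f _ ∈ T'
        have : f (⟨q, Subgroup.le_normalizer hq⟩ : M) = 1 :=
          Subtype.ext (Equiv.ext fun v => Subtype.ext (v.2 q hq))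
        rw [this]; exact one_mem _
      have hQn : Qh.Normal := ⟨fun a ha b => by
        show ((b : M) : G) * ((a : M) : G) * ((b : M) : G)⁻¹ ∈ Q
        exact (Subgroup.mem_normalizer_iff.mp (b : M).2 _).mp ha⟩
      have hQp : IsPGroup 2 Qh := (hQ.comap_of_injective _ Subtype.coe_injective).comap_of_injective _
        Subtype.coe_injective
      have hle := hQp.le_sylow_of_normal R
      intro q hq
      exact ⟨⟨q, Subgroup.le_normalizer hq⟩, ⟨⟨_, hQker q hq⟩, hle hq, rfl⟩, rfl⟩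
    have hd2 : ((d : M) : G) ∈ Subgroup.normalizer (Q2 : Set G) := by
      rw [Subgroup.mem_normalizer_iff_map_conj_eq]
      refine Subgroup.eq_of_le_of_card_ge ?_
        (le_of_eq (Subgroup.card_map_of_injective
          (MulAut.conj ((((d : M)) : G))).injective).symm)
      rintro _ ⟨_, ⟨q, hq, rfl⟩, rfl⟩
      exact ⟨_, (Subgroup.mem_normalizer_iff.mp d.2 q).mp hq, rfl⟩
    have hQ2Q := hmax Q2 ((R.2.map _).map _)
      ⟨_, hd.map (f := M.subtype.comp (Subgroup.normalizer (Q1 : Set M)).subtype)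
        (Subtype.coe_injective.comp Subtype.coe_injective), hd2⟩ hQQ2
    refine hTne ((Subgroup.eq_bot_iff_forall _).mpr fun a ha => ?_)
    obtain ⟨q, hq, rfl⟩ := hQ1T a ha
    exact Subtype.ext (Equiv.ext fun v => Subtype.ext (v.2 _ (hQ2Q ⟨q, hq, rfl⟩)))
  -- the image of `y` and the two involutions
  set z := f ⟨y, hyQ⟩
  have hzne : z ≠ 1 := by
    intro e
    have := hf ⟨y, hyQ⟩ t'
    rw [show f ⟨y, hyQ⟩ = 1 from e, one_smul] at this
    exact h.noFix y t hy (congrArg Subtype.val this).symm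
  have hzr : ∃ n : ℕ, RealP (z ^ n) := by
    refine exists_realP_pow hzne (hy.odd.of_dvd_nat ?_) ?_
    · exact (orderOf_map_dvd f _).trans (dvd_of_eq (Subgroup.orderOf_mk _ _))
    · exact isConj_iff.mpr ⟨f ⟨g, hgM⟩, by
        rw [← map_inv, ← map_mul, ← map_mul, ← map_inv]
        exact congrArg f (Subtype.ext hgy)⟩
  obtain ⟨n, hzn⟩ := hzr
  have hsq : f ⟨g, hgM⟩ * f ⟨g, hgM⟩ = 1 := by
    have hc : Commute (f ⟨g, hgM⟩ * f ⟨g, hgM⟩) (z ^ n) := by
      refine Commute.pow_right ?_ n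
      rw [← map_mul]
      refine Commute.map (Subtype.ext ?_) f
      show g * g * y = y * (g * g)
      rw [← mul_inv_eq_iff_eq_mul, show g * g * y * (g * g)⁻¹ = g * (g * y * g⁻¹) * g⁻¹ by group, hgy,
        show g * y⁻¹ * g⁻¹ = (g * y * g⁻¹)⁻¹ by group, hgy, inv_inv]
    by_contra hne
    have h2 : TwoElt (f ⟨g, hgM⟩ * f ⟨g, hgM⟩) := by
      obtain ⟨k, hk⟩ := hgS.2
      refine ⟨k, ?_⟩
      rw [← map_mul, ← map_pow, ← map_one f]
      refine congrArg f (Subtype.ext ?_)
      show (g * g) ^ 2 ^ k = 1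
      rw [(Commute.refl g).mul_pow, hk, one_mul]
    obtain ⟨i, hi1, hi2⟩ := h2.exists_involution hne
    exact hcent _ _ hzn ⟨hi1, hi2⟩ (hc.pow_left i)
  have hgne : f ⟨g, hgM⟩ ≠ 1 := by
    intro e
    refine hzn.ne_inv ?_
    have e2 : f ⟨g, hgM⟩ * z * (f ⟨g, hgM⟩)⁻¹ = z⁻¹ := by
      rw [← map_inv, ← map_mul, ← map_mul, ← map_inv]
      exact congrArg f (Subtype.ext hgy)
    rw [e, one_mul, inv_one, mul_one] at e2
    rw [← inv_pow, ← e2]
  have hfu : f ⟨u, huM⟩ ≠ 1 := fun e => huQ (hker _ e hu.2)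
  have hfug : f ⟨u, huM⟩ = f ⟨g, hgM⟩ := by
    refine involution_unique_of_stab hFodd (fun v w => ?_) hnofix (fun z hz v w => ?_) hcent
      (v₀ := t') ⟨?_, hfu⟩ ⟨hsq, hgne⟩ (Subtype.ext hu.1) (Subtype.ext hgS.1)
    · obtain ⟨c, -, hc⟩ := htrF y hy hyQ v w
      exact ⟨f c, hc⟩
    · obtain ⟨d, rfl, hd⟩ := hlift z hz
      obtain ⟨c, hc, hcv⟩ := htrF _ hd d.2 v w
      exact ⟨f c, hc.map f, hcv⟩
    · rw [← map_mul, ← map_one f]; exact congrArg f (Subtype.ext hu2)
  set k := g⁻¹ * u with hk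
  have hkS : k ∈ S := mul_mem (inv_mem hgS) hu
  have hkQ : k ∈ Q := by
    have : f (⟨g, hgM⟩⁻¹ * ⟨u, huM⟩) = 1 := by rw [map_mul, map_inv, hfug, inv_mul_cancel]
    exact hker _ this hkS.2
  -- `y` centralises `Q`
  let ψ : M →* MulAut Q := Subgroup.normalizerMonoidHom Q
  have hψu : ψ ⟨u, huM⟩ = 1 := by
    ext q
    show u * (q : G) * u⁻¹ = q
    rw [(huc _ (hQS q.2)).eq, mul_inv_cancel_right]
  set K : M := ⟨k, Subgroup.le_normalizer hkQ⟩
  set Y : M := ⟨y, hyQ⟩
  have hgk : (⟨g, hgM⟩ : M) * K = ⟨u, huM⟩ := Subtype.ext (by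
    show g * (g⁻¹ * u) = u; rw [mul_inv_cancel_left])
  set X := K⁻¹ * Y * K * Y
  have hX : ψ X = 1 := by
    have e1 : (⟨g, hgM⟩ : M) * Y * (⟨g, hgM⟩ : M)⁻¹ = Y⁻¹ := Subtype.ext hgy
    have e2 : ψ ⟨g, hgM⟩ = (ψ K)⁻¹ := by
      rw [eq_inv_iff_mul_eq_one, ← map_mul, hgk, hψu]
    have e3 := congrArg ψ e1
    rw [map_mul, map_mul, map_inv, e2, inv_inv, map_inv] at e3
    rw [map_mul, map_mul, map_mul, map_inv, e3, inv_mul_cancel]
  have hψy : ψ Y = 1 := by
    have hN : Y * Y ∈ ψ.ker ⊔ (Q.subgroupOf M) := by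
      have hYY : Y * Y = (Y * K⁻¹ * Y⁻¹ * K) * (K⁻¹ * Y * K * Y) := by group
      rw [hYY]
      refine mul_mem (Subgroup.mem_sup_right ?_) (Subgroup.mem_sup_left hX)
      show y * k⁻¹ * y⁻¹ * k ∈ Q
      exact mul_mem ((Subgroup.mem_normalizer_iff.mp hyQ _).mp (inv_mem hkQ)) hkQ
    have hn : (Q.subgroupOf M).Normal := ⟨fun a ha b =>
      (Subgroup.mem_normalizer_iff.mp b.2 _).mp ha⟩
    obtain ⟨a, ha, q, hq, hqe⟩ := Subgroup.mem_sup_of_normal_right.mp hN
    have h2 : TwoElt (ψ (Y * Y)) := by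
      rw [← hqe, map_mul, MonoidHom.mem_ker.mp ha, one_mul]
      obtain ⟨j, hj⟩ := twoElt_of_mem hQ hq
      exact ⟨j, by rw [← map_pow, ← map_one ψ]; exact congrArg ψ (Subtype.ext (by simpa using hj))⟩
    have hodd : Odd (orderOf Y) := by rw [Subgroup.orderOf_mk]; exact hy.odd
    have h3 : ψ Y ^ 2 = 1 := by
      rw [sq, ← map_mul]
      refine h2.eq_one_of_odd (hodd.of_dvd_nat ((orderOf_map_dvd ψ _).trans ?_))
      rw [← sq]; exact orderOf_pow_dvd 2
    refine (show TwoElt (ψ Y) from ⟨1, by rw [pow_one]; exact h3⟩).eq_one_of_odd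
      (hodd.of_dvd_nat (orderOf_map_dvd ψ Y))
  have hcomm : ∀ q ∈ Q, Commute q y := by
    intro q hq
    have := congrArg (fun φ : MulAut Q => ((φ ⟨q, hq⟩ : Q) : G)) hψy
    have e : y * q * y⁻¹ = q := this
    exact (mul_inv_eq_iff_eq_mul.mp e).symm
  refine ⟨hcomm, ?_⟩
  rw [show u = g * k by rw [hk, mul_inv_cancel_left], show g * k * y * (g * k)⁻¹ =
    g * (k * y * k⁻¹) * g⁻¹ by group, (hcomm k hkQ).eq, mul_inv_cancel_right, hgy]

end Setup

/-- an element mapping every conjugate of `y` to itself or its inverse -/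
def signStab (y : G) : Subgroup G where
  carrier := {n | ∀ x, IsConj y x → n * x * n⁻¹ = x ∨ n * x * n⁻¹ = x⁻¹}
  one_mem' := fun x _ => Or.inl (by group)
  mul_mem' := fun {a b} ha hb x hx => by
    rw [show a * b * x * (a * b)⁻¹ = a * (b * x * b⁻¹) * a⁻¹ by group]
    rcases hb x hx with e | e <;> rw [e]
    · exact ha x hx
    · rw [show a * x⁻¹ * a⁻¹ = (a * x * a⁻¹)⁻¹ by group]
      rcases ha x hx with e' | e' <;> rw [e']
      · exact Or.inr rfl
      · exact Or.inl (inv_inv x)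
  inv_mem' := fun {a} ha x hx => by
    rcases ha x hx with e | e
    · left; conv_lhs => rw [← e]
      group
    · right
      calc a⁻¹ * x * a⁻¹⁻¹ = a⁻¹ * (a * x * a⁻¹)⁻¹ * a⁻¹⁻¹ := by rw [e, inv_inv x]
        _ = x⁻¹ := by group

theorem commute_commutator_signStab {y a b x : G} (ha : a ∈ signStab y) (hb : b ∈ signStab y)
    (hx : IsConj y x) : Commute (a * b * a⁻¹ * b⁻¹) x := by
  have key : ∀ a ∈ signStab y, ∀ b ∈ signStab y, a * b * x * (a * b)⁻¹ = b * a * x * (b * a)⁻¹ := by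
    intro a ha b hb
    rw [show a * b * x * (a * b)⁻¹ = a * (b * x * b⁻¹) * a⁻¹ by group,
      show b * a * x * (b * a)⁻¹ = b * (a * x * a⁻¹) * b⁻¹ by group]
    rcases ha x hx with e | e <;> rcases hb x hx with e' | e' <;> simp only [e, e'] <;>
      simp only [show ∀ c : G, c * x⁻¹ * c⁻¹ = (c * x * c⁻¹)⁻¹ from fun c => by group, e, e', inv_inv]
  refine mul_inv_eq_iff_eq_mul.mp ?_
  rw [show a * b * a⁻¹ * b⁻¹ * x * (a * b * a⁻¹ * b⁻¹)⁻¹ =
      a * b * (a⁻¹ * b⁻¹ * x * (a⁻¹ * b⁻¹)⁻¹) * (a * b)⁻¹ by group,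
    key _ (inv_mem ha) _ (inv_mem hb)]
  group

theorem isSolvable_of_commute {A : Subgroup G} (h : ∀ a ∈ A, ∀ b ∈ A, a * b = b * a) :
    Group.IsSolvable A :=
  Group.isSolvable_of_comm fun a b => Subtype.ext (h a a.2 b b.2)

/-- a group with the setting is solvable -/
theorem Setup.solvable {G O : Type u} [Group G] [Finite G] [MulAction G O] [Finite O]
    (h : Setup G O) : Group.IsSolvable G := by
  induction hcard : Nat.card G using Nat.strong_induction_on generalizing G O with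
  | _ n ih =>
  subst hcard
  by_contra hns
  have hR : ∀ L : Subgroup G, L.Normal → Group.IsSolvable L → L = ⊥ := fun L hL hs =>
    h.eq_bot_of_solvable hns (fun G' O' _ _ _ _ hlt h' => ih _ hlt h' rfl) L hs
  obtain ⟨y₀, hy₀⟩ : ∃ y : G, RealP y := by
    by_contra hcon
    push Not at hcon
    exact hns (solvable_of_noReal hcon)
  -- a maximal pair
  obtain ⟨Q, ⟨hQ, y, hy, hyQ⟩, hmax'⟩ := (Set.toFinite {B : Subgroup G | IsPGroup 2 B ∧
    ∃ z, RealP z ∧ z ∈ Subgroup.normalizer (B : Set G)}).exists_maximal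
      ⟨⊥, IsPGroup.of_bot, y₀, hy₀, by
        rw [Subgroup.mem_normalizer_iff_map_conj_eq, Subgroup.map_bot]⟩
  have hmax : ∀ B : Subgroup G, IsPGroup 2 B → (∃ z, RealP z ∧ z ∈ Subgroup.normalizer (B : Set G)) →
      Q ≤ B → B ≤ Q := fun B h1 h2 h3 => hmax' ⟨h1, h2⟩ h3
  obtain ⟨t, ht⟩ := h.exists_fixed hQ
  set L := Subgroup.normalClosure ({y} : Set G) with hL
  have hLn : L.Normal := Subgroup.normalClosure_normal
  have hyL : y ∈ L := Subgroup.subset_normalClosure rfl
  -- central involutions of `L` at a point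
  let Om : O → G → Prop := fun v u => u ∈ h.twoPart v ∧ (u * u = 1 ∧ u ≠ 1) ∧ u ∈ L ∧
    ∀ s ∈ h.twoPart v, Commute u s
  have hOm : ∀ (c : G) (v : O) (u : G), Om v u → Om (c • v) (c * u * c⁻¹) := by
    rintro c v u ⟨h1, ⟨h2, h3⟩, h4, h5⟩
    refine ⟨h.conj_mem_twoPart h1 c, ⟨?_, fun e => h3 ?_⟩, hLn.conj_mem u h4 c, fun s hs => ?_⟩
    · rw [show c * u * c⁻¹ * (c * u * c⁻¹) = c * (u * u) * c⁻¹ by group, h2]; group
    · simpa using e
    · have hs' := h.conj_mem_twoPart hs c⁻¹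
      rw [inv_smul_smul, inv_inv] at hs'
      have := (h5 _ hs').map (MulAut.conj c).toMonoidHom
      simpa [mul_assoc] using this
  obtain ⟨u₀, hu₀⟩ : ∃ u, Om t u := by
    have heven : 2 ∣ Nat.card L := by
      by_contra hodd
      have := hR L hLn (Cfsg.Agent.S0205.result
        (Nat.not_even_iff_odd.mp fun he => hodd (even_iff_two_dvd.mp he)))
      rw [this, Subgroup.mem_bot] at hyL
      exact hy.1 hyL
    obtain ⟨⟨a, haL⟩, ha⟩ := exists_prime_orderOf_dvd_card' (G := L) 2 heven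
    rw [Subgroup.orderOf_mk] at ha
    have ha2 : TwoElt a := twoElt_of_sq (by rw [← sq, ← ha, pow_orderOf_eq_one])
    obtain ⟨v, hv⟩ := h.exists_fixed (isPGroup_zpowers_of_twoElt ha2)
    obtain ⟨g, hg⟩ := h.trans v t
    set S := h.twoPart t
    have ha' : g * a * g⁻¹ ∈ S := by
      have := h.conj_mem_twoPart (v := v) ⟨hv a (Subgroup.mem_zpowers a), ha2⟩ g
      rwa [hg] at this
    set N := L.subgroupOf S
    have hp : IsPGroup 2 (ConjAct S) := (h.isPGroup_twoPart t).of_equiv ConjAct.toConjAct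
    have hdvd : 2 ∣ Nat.card N := by
      rcases ((h.isPGroup_twoPart t).to_subgroup N).card_eq_or_dvd with h1 | h1
      · exfalso
        have : N = ⊥ := Subgroup.eq_bot_of_card_eq N h1
        have hm : (⟨_, ha'⟩ : S) ∈ N := hLn.conj_mem a haL g
        rw [this, Subgroup.mem_bot] at hm
        have e : g * a * g⁻¹ = 1 := congrArg Subtype.val hm
        have : a = 1 := by simpa using e
        rw [this, orderOf_one] at ha
        norm_num at ha
      · exact h1
    obtain ⟨b, hb, hb1⟩ := hp.exists_fixed_point_of_prime_dvd_card_of_fixed_point N hdvd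
      (a := (1 : N)) (fun g => smul_one g)
    have hbc : ∀ s ∈ S, Commute ((b : S) : G) s := by
      intro s hs
      have := congrArg (fun z : N => ((z : S) : G)) (hb (ConjAct.toConjAct ⟨s, hs⟩))
      have e : s * ((b : S) : G) * s⁻¹ = ((b : S) : G) := this
      exact (mul_inv_eq_iff_eq_mul.mp e).symm
    have hbne : ((b : S) : G) ≠ 1 := fun e => hb1 (Subtype.ext (Subtype.ext e.symm))
    obtain ⟨m, hm1, hm2⟩ := (b : S).2.2.exists_involution hbne
    exact ⟨((b : S) : G) ^ m, pow_mem (b : S).2 m, ⟨hm1, hm2⟩, pow_mem b.2 m,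
      fun s hs => (hbc s hs).pow_left m⟩
  have hu₀L : u₀ ∈ L := hu₀.2.2.1
  by_cases hA : ∀ q ∈ Q, Commute q y
  · -- conjugates of `u₀` fix or invert every conjugate of `y`
    have hmem : ∀ a : G, a * u₀ * a⁻¹ ∈ signStab y := by
      intro a x hx
      obtain ⟨b, rfl⟩ := isConj_iff.mp hx
      obtain ⟨c, hc, hcv⟩ := h.centTrans y hy t (b⁻¹ • a • t)
      set d := (b * c)⁻¹ * a with hd
      have hdt : d • t = t := by
        rw [hd, mul_smul, inv_smul_eq_iff, mul_smul, hcv, smul_inv_smul]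
      have hu' := hOm d t u₀ hu₀
      rw [hdt] at hu'
      have hsign : d * u₀ * d⁻¹ * y * (d * u₀ * d⁻¹)⁻¹ = y ∨
          d * u₀ * d⁻¹ * y * (d * u₀ * d⁻¹)⁻¹ = y⁻¹ := by
        by_cases hq : d * u₀ * d⁻¹ ∈ Q
        · left; rw [(hA _ hq).eq, mul_inv_cancel_right]
        · exact Or.inr (h.inverts_of_not_mem hQ hmax hy hyQ ht hu'.1 hu'.2.1.1 hu'.2.1.2 hu'.2.2.2 hq).2
      have hby : b * y * b⁻¹ = b * c * y * (b * c)⁻¹ := by
        rw [show b * c * y * (b * c)⁻¹ = b * (c * y * c⁻¹) * b⁻¹ by group, hc.eq, mul_inv_cancel_right]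
      have e : a * u₀ * a⁻¹ * (b * c * y * (b * c)⁻¹) * (a * u₀ * a⁻¹)⁻¹ =
          b * c * (d * u₀ * d⁻¹ * y * (d * u₀ * d⁻¹)⁻¹) * (b * c)⁻¹ := by
        rw [hd]; group
      rw [hby, e]
      rcases hsign with e' | e' <;> rw [e']
      · exact Or.inl rfl
      · right; group
    set N := Subgroup.normalClosure ({u₀} : Set G)
    have hN : N.Normal := Subgroup.normalClosure_normal
    have hNs : N ≤ signStab y := by
      refine (Subgroup.closure_le _).mpr fun w hw => ?_
      obtain ⟨z, hz, hzw⟩ := Group.mem_conjugatesOfSet_iff.mp hw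
      rw [Set.mem_singleton_iff] at hz
      subst hz
      obtain ⟨a, rfl⟩ := isConj_iff.mp hzw
      exact hmem a
    have hNL : N ≤ L := Subgroup.normalClosure_le_normal (by simpa using hu₀L)
    have hDc : ⁅N, N⁆ ≤ Subgroup.centralizer (L : Set G) := by
      rw [show L = Subgroup.closure (Group.conjugatesOfSet {y}) from rfl, Subgroup.centralizer_closure,
        Subgroup.commutator_le]
      intro a ha b hb x hx
      obtain ⟨z, hz, hzx⟩ := Group.mem_conjugatesOfSet_iff.mp hx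
      rw [Set.mem_singleton_iff] at hz
      subst hz
      exact (commute_commutator_signStab (hNs ha) (hNs hb) hzx).symm
    have hD : ⁅N, N⁆ = ⊥ := hR _ inferInstance (isSolvable_of_commute fun a ha b hb =>
      (Subgroup.mem_centralizer_iff.mp (hDc ha) b (hNL (Subgroup.commutator_le_left N N hb))).symm)
    have hNb : N = ⊥ := hR N hN (isSolvable_of_commute fun a ha b hb =>
      (Subgroup.mem_centralizer_iff.mp ((Subgroup.commutator_eq_bot_iff_le_centralizer.mp hD) ha) b hb).symm)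
    have : u₀ ∈ N := Subgroup.subset_normalClosure rfl
    rw [hNb, Subgroup.mem_bot] at this
    exact hu₀.2.1.2 this
  · -- every conjugate of `u₀` lies in a 2-group normalised by `y`
    have hcover : ∀ a : G, ∃ E : Subgroup G, IsPGroup 2 E ∧ y ∈ Subgroup.normalizer (E : Set G) ∧
        a * u₀ * a⁻¹ ∈ E := by
      intro a
      obtain ⟨c, hc, hcv⟩ := h.centTrans y hy t (a • t)
      refine ⟨Q.map (MulAut.conj c).toMonoidHom, hQ.map _, mem_normalizer_conjMap hc hyQ,
        mem_conjMap.mpr ?_⟩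
      have hu' := hOm (c⁻¹ * a) t u₀ hu₀
      rw [mul_smul, ← hcv, inv_smul_smul] at hu'
      rw [show c⁻¹ * (a * u₀ * a⁻¹) * c = c⁻¹ * a * u₀ * (c⁻¹ * a)⁻¹ by group]
      by_contra hq
      exact hA (h.inverts_of_not_mem hQ hmax hy hyQ ht hu'.1 hu'.2.1.1 hu'.2.1.2 hu'.2.2.2 hq).1
    let 𝔚 : Set G := {w | ∃ a : G, a * u₀ * a⁻¹ = w}
    have h𝔚 : ∀ (g : G) (w : G), w ∈ 𝔚 → g * w * g⁻¹ ∈ 𝔚 := by
      rintro g w ⟨a, rfl⟩; exact ⟨g * a, by group⟩
    obtain ⟨W, ⟨hW, hyW, hWgen⟩, hWmax⟩ := (Set.toFinite {A : Subgroup G | IsPGroup 2 A ∧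
      y ∈ Subgroup.normalizer (A : Set G) ∧ A ≤ Subgroup.closure ((A : Set G) ∩ 𝔚)}).exists_maximal
        ⟨⊥, IsPGroup.of_bot, by rw [Subgroup.mem_normalizer_iff_map_conj_eq, Subgroup.map_bot], bot_le⟩
    have habs : ∀ f ∈ 𝔚, f ∈ Subgroup.normalizer (W : Set G) → f ∈ W := by
      intro f hf hfW
      set D : Set G := {z | ∃ i : ℤ, y ^ i * f * (y ^ i)⁻¹ = z}
      set E := Subgroup.closure D
      obtain ⟨a, rfl⟩ := hf
      obtain ⟨E₀, hE₀, hyE₀, hfE₀⟩ := hcover a
      have hE : IsPGroup 2 E := hE₀.to_le ((Subgroup.closure_le _).mpr fun z hz => by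
        obtain ⟨i, rfl⟩ := hz
        exact (Subgroup.mem_normalizer_iff.mp (zpow_mem hyE₀ i) _).mp hfE₀)
      have hEW : E ≤ Subgroup.normalizer (W : Set G) := (Subgroup.closure_le _).mpr fun z hz => by
        obtain ⟨i, rfl⟩ := hz
        exact mul_mem (mul_mem (zpow_mem hyW i) hfW) (inv_mem (zpow_mem hyW i))
      have hyE : y ∈ Subgroup.normalizer (E : Set G) := by
        rw [Subgroup.mem_normalizer_iff_map_conj_eq]
        refine Subgroup.eq_of_le_of_card_ge ?_
          (by rw [Subgroup.card_map_of_injective (MulAut.conj y).injective])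
        rw [MonoidHom.map_closure]
        refine Subgroup.closure_mono ?_
        rintro _ ⟨_, ⟨i, rfl⟩, rfl⟩
        refine ⟨1 + i, ?_⟩
        show _ = y * _ * y⁻¹
        rw [zpow_add, zpow_one]; group
      refine hWmax (show E ⊔ W ∈ _ from ⟨hE.to_sup_of_normal_right' hW hEW, mem_normalizer_sup hyE hyW,
        sup_le ?_ (hWgen.trans (Subgroup.closure_mono (Set.inter_subset_inter_left _ (SetLike.coe_subset_coe.mpr le_sup_right))))⟩)
        le_sup_right (Subgroup.mem_sup_left (Subgroup.subset_closure ⟨0, by simp⟩))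
      refine Subgroup.closure_mono fun z hz => ⟨Subgroup.mem_sup_left (Subgroup.subset_closure hz), ?_⟩
      obtain ⟨i, rfl⟩ := hz
      exact h𝔚 _ _ ⟨a, rfl⟩
    obtain ⟨v, hv⟩ := h.exists_fixed hW
    have hWS : W ≤ h.twoPart v := h.le_twoPart hW hv
    have hSN : h.twoPart v ≤ Subgroup.normalizer (W : Set G) := by
      by_contra hcon
      set S := h.twoPart v
      set T₁ := (Subgroup.normalizer (W : Set G)).subgroupOf S
      have hnil : Group.IsNilpotent S := (h.isPGroup_twoPart v).isNilpotent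
      have hlt : T₁ < ⊤ := lt_top_iff_ne_top.mpr fun e => hcon fun s hs => by
        have : (⟨s, hs⟩ : S) ∈ T₁ := by rw [e]; trivial
        exact this
      obtain ⟨s, hs, hsT⟩ := SetLike.exists_of_lt (Group.normalizerCondition_of_isNilpotent T₁ hlt)
      refine hsT ?_
      show (s : G) ∈ Subgroup.normalizer (W : Set G)
      rw [Subgroup.mem_normalizer_iff_map_conj_eq]
      refine Subgroup.eq_of_le_of_card_ge ?_
        (by rw [Subgroup.card_map_of_injective (MulAut.conj (s : G)).injective])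
      refine (Subgroup.map_mono hWgen).trans ?_
      rw [MonoidHom.map_closure, Subgroup.closure_le]
      rintro _ ⟨f, ⟨hfW, hf⟩, rfl⟩
      refine habs _ (h𝔚 _ _ hf) ?_
      have := (Subgroup.mem_normalizer_iff.mp hs ⟨f, hWS hfW⟩).mp (Subgroup.le_normalizer hfW)
      exact this
    have hall : ∀ f ∈ 𝔚, f ∈ h.twoPart v → f ∈ W := fun f hf hfS => habs f hf (hSN hfS)
    -- every conjugate of `y` normalises `W`
    have hconjW : ∀ c : G, c • v = v → W.map (MulAut.conj c).toMonoidHom = W := by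
      intro c hc
      refine Subgroup.eq_of_le_of_card_ge ?_
        (by rw [Subgroup.card_map_of_injective (MulAut.conj c).injective])
      refine (Subgroup.map_mono hWgen).trans ?_
      rw [MonoidHom.map_closure, Subgroup.closure_le]
      rintro _ ⟨f, ⟨hfW, hf⟩, rfl⟩
      refine hall _ (h𝔚 _ _ hf) ?_
      show c * f * c⁻¹ ∈ h.twoPart v
      rw [← hc]; exact h.conj_mem_twoPart (hWS hfW) c
    have hLW : L ≤ Subgroup.normalizer (W : Set G) := by
      refine (Subgroup.closure_le _).mpr fun x hx => ?_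
      obtain ⟨z, hz, hzx⟩ := Group.mem_conjugatesOfSet_iff.mp hx
      rw [Set.mem_singleton_iff] at hz
      subst hz
      obtain ⟨b, rfl⟩ := isConj_iff.mp hzx
      obtain ⟨c, hc, hcv⟩ := h.centTrans z hy v (b⁻¹ • v)
      have hbc : (b * c) • v = v := by rw [mul_smul, hcv, smul_inv_smul]
      have h2 := conj_mem_normalizer_map hyW (b * c)
      rw [hconjW _ hbc, show b * c * z * (b * c)⁻¹ = b * (c * z * c⁻¹) * b⁻¹ by group, hc.eq,
        mul_inv_cancel_right] at h2
      exact h2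
    have hWL : W ≤ L := hWgen.trans ((Subgroup.closure_le _).mpr fun f hf => by
      obtain ⟨a, rfl⟩ := hf.2
      exact hLn.conj_mem u₀ hu₀L a)
    have : (W.subgroupOf L).Normal := ⟨fun a ha b =>
      (Subgroup.mem_normalizer_iff.mp (hLW b.2) _).mp ha⟩
    have hle := CfsgLib.Solvable.le_pCore this (hW.comap_of_injective L.subtype Subtype.coe_injective)
    have : (Cfsg.pCore 2 L).Characteristic := CfsgLib.Solvable.pCore_characteristic 2 L
    have h2 : IsPGroup 2 ((Cfsg.pCore 2 L).map L.subtype) := (CfsgLib.Solvable.pCore_isPGroup 2).map _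
    have hbot := hR ((Cfsg.pCore 2 L).map L.subtype) inferInstance (solvable_of_noReal fun d hd => by
      obtain ⟨k, hk⟩ := isPGroup_iff_pow_pow_eq_one.mp h2 d
      exact hd.1 (TwoElt.eq_one_of_odd ⟨k, hk⟩ hd.odd))
    obtain ⟨g, hg⟩ := h.trans t v
    have hmem : g * u₀ * g⁻¹ ∈ W := hall _ ⟨g, rfl⟩ (by rw [← hg]; exact h.conj_mem_twoPart hu₀.1 g)
    have hin : g * u₀ * g⁻¹ ∈ (Cfsg.pCore 2 L).map L.subtype := ⟨⟨_, hWL hmem⟩, hle hmem, rfl⟩
    rw [hbot, Subgroup.mem_bot] at hin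
    exact hu₀.2.1.2 (by simpa using hin)

end CfsgLib.S4187
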