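import Cfsg.Agent.Lib.S4187.Basic

/-!
The permutation setting of S4187.
-/

set_option autoImplicit false

namespace CfsgLib.S4187

/-- transitive action of odd degree where real elements of odd prime power order fix no point and
have transitive centralisers -/
structure Setup (G O : Type*) [Group G] [MulAction G O] : Prop where
  odd_card : Odd (Nat.card O)
  trans : ∀ v w : O, ∃ g : G, g • v = w
  noFix : ∀ (z : G) (v : O), RealP z → z • v ≠ v
  centTrans : ∀ z : G, RealP z → ∀ v w : O, ∃ c : G, Commute c z ∧ c • v = w

end CfsgLib.S4187
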